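import Cfsg.Agent.R2.T1.N7C.Cer

/-!
# S5929: faithful modules of `2·A₇` in characteristic 3: dimensions (helper6)

`bound` : `3 dim W^x + 3 dim W^(7:3) ≤ dim W` (`x` of order 5) and `dim W^y ≤ 3 dim W^(7:3)` (`y` of order 7).
-/

set_option autoImplicit false
set_option maxRecDepth 100000

namespace Cfsg.Agent.R2.T1.N7C

open Module
open Cfsg.Agent.H952.F4 (ev)

universe u v

section lin
variable {K : Type*} {W : Type*} [Field K] [AddCommGroup W] [Module K W]

theorem N5_five (h3 : ∀ x : W, x + x + x = 0) {T : Module.End K W} {v : W} (hv : T v = v) : N5 T v = -v := by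
  rw [N5_apply, hv, hv, hv, hv]
  have h := h3 v
  have : v + v + v + v + v = (v + v + v) + (v + v + v) + -v := by abel
  rw [this, h, zero_add, zero_add]

variable {X B : Module.End K W} (hX : ∀ v, X (X (X (X (X v)))) = v) (hB : ∀ v, B (B (B (B (B v)))) = v)

include hX hB in
/-- on the fixed points of `B` -/
theorem relB (h1 : ∀ v, X (B (B (X (B (B v))))) = -v) (h2 : ∀ v, X (X (B (X (X (B v))))) = -v) {w : W} (hw : B w = w) :
    N5 B (X (X (X (X w)))) = -N5 B (X w) ∧ N5 B (X (X (X w))) = -N5 B (X (X w)) := by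
  constructor
  · have e1 := h1 w
    rw [hw, hw] at e1
    have e2 := congrArg (fun u => X (X (X (X u)))) e1
    simp only [map_neg] at e2
    rw [hX] at e2
    have e3 : N5 B (B (B (X w))) = N5 B (X w) := by rw [N5_shift hB, N5_shift hB]
    rw [e2, map_neg] at e3
    rw [← e3, neg_neg]
  · have e1 := h2 w
    rw [hw] at e1
    have e2 := congrArg (fun u => X (X (X u))) e1
    simp only [map_neg] at e2
    rw [hX] at e2
    have e3 : N5 B (B (X (X w))) = N5 B (X (X w)) := by rw [N5_shift hB]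
    rw [e2, map_neg] at e3
    rw [← e3, neg_neg]

include hX hB in
/-- on the fixed points of `X` -/
theorem relX (h1 : ∀ v, X (B (B (X (B (B v))))) = -v) (h2 : ∀ v, X (X (B (X (X (B v))))) = -v) {u : W} (hu : X u = u) :
    N5 X (B (B (B (B u)))) = -N5 X (B u) ∧ N5 X (B (B (B u))) = -N5 X (B (B u)) := by
  have h4 : X (X (X (X u))) = u := by rw [hu, hu, hu, hu]
  have h5 : X (X (X u)) = u := by rw [hu, hu, hu]
  constructor
  · have e1 := congrArg (fun u => X (X (X u))) (h2 u)
    simp only [map_neg] at e1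
    rw [hX, h5] at e1
    have e2 := congrArg (fun u => B (B (B (B u)))) e1
    simp only [map_neg] at e2
    rw [hB] at e2
    have e3 : N5 X (X (X (B u))) = N5 X (B u) := by rw [N5_shift hX, N5_shift hX]
    rw [e2, map_neg] at e3
    rw [← e3, neg_neg]
  · have e1 := congrArg (fun u => X (X (X (X u)))) (h1 u)
    simp only [map_neg] at e1
    rw [hX, h4] at e1
    have e2 := congrArg (fun u => B (B (B u))) e1
    simp only [map_neg] at e2
    rw [hB] at e2
    have e3 : N5 X (X (B (B u))) = N5 X (B (B u)) := by rw [N5_shift hX]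
    rw [e2, map_neg] at e3
    rw [← e3, neg_neg]

include hX hB in
theorem NN (h3 : ∀ x : W, x + x + x = 0) (h1 : ∀ v, X (B (B (X (B (B v))))) = -v)
    (h2 : ∀ v, X (X (B (X (X (B v))))) = -v) {u : W} (hu : X u = u) : N5 X (N5 B u) = -u := by
  obtain ⟨e1, e2⟩ := relX hX hB h1 h2 hu
  rw [N5_apply B u, map_add, map_add, map_add, map_add, e1, e2, N5_five h3 hu]
  abel

include hX hB in
theorem NN' (h3 : ∀ x : W, x + x + x = 0) (h1 : ∀ v, X (B (B (X (B (B v))))) = -v)
    (h2 : ∀ v, X (X (B (X (X (B v))))) = -v) {w : W} (hw : B w = w) : N5 B (N5 X w) = -w := by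
  obtain ⟨e1, e2⟩ := relB hX hB h1 h2 hw
  rw [N5_apply X w, map_add, map_add, map_add, map_add, e1, e2, N5_five h3 hw]
  abel

include hX hB in
/-- the block idempotent kills the fixed points of `X` -/
theorem Er_X (h3 : ∀ x : W, x + x + x = 0) (h1 : ∀ v, X (B (B (X (B (B v))))) = -v)
    (h2 : ∀ v, X (X (B (X (X (B v))))) = -v) {u : W} (hu : X u = u) : Er X B u = 0 := by
  rw [Er_apply, hu, hu, hu, hu]
  have e := NN hX hB h3 h1 h2 hu
  rw [N5_apply X (N5 B u)] at e
  have e' : N5 B u + X (N5 B u) + X (X (N5 B u)) + X (X (X (N5 B u))) + X (X (X (X (N5 B u)))) = -u := e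
  rw [e', N5_five h3 hu]
  have h := h3 u
  have : u - -u - -u = u + u + u := by abel
  rw [this, h]

include hX in
theorem Er_comm (v : W) : Er X B (X v) = X (Er X B v) := by
  rw [Er_apply, Er_apply, N5_shift hX, hX]
  simp only [map_sub, map_add]
  have e : X (N5 X v) = N5 X v := by
    rw [N5_apply]
    simp only [map_add, hX]
    abel
  rw [e, hX]
  abel

theorem Er_symm (hc : ∀ v, X (N5 B (X (X (X (X v))))) + X (X (N5 B (X (X (X v))))) + X (X (X (N5 B (X (X v))))) +
      X (X (X (X (N5 B (X v))))) = B (N5 X (B (B (B (B v))))) + B (B (N5 X (B (B (B v))))) + B (B (B (N5 X (B (B v))))) +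
      B (B (B (B (N5 X (B v)))))) (v : W) : Er X B v = Er B X v := by
  have h := hc v
  rw [Er_apply, Er_apply]
  have e1 : N5 B v + X (N5 B (X (X (X (X v))))) + X (X (N5 B (X (X (X v))))) + X (X (X (N5 B (X (X v))))) +
      X (X (X (X (N5 B (X v))))) = N5 B v + (X (N5 B (X (X (X (X v))))) + X (X (N5 B (X (X (X v))))) +
      X (X (X (N5 B (X (X v))))) + X (X (X (X (N5 B (X v)))))) := by abel
  have e2 : N5 X v + B (N5 X (B (B (B (B v))))) + B (B (N5 X (B (B (B v))))) + B (B (B (N5 X (B (B v))))) +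
      B (B (B (B (N5 X (B v))))) = N5 X v + (B (N5 X (B (B (B (B v))))) + B (B (N5 X (B (B (B v))))) +
      B (B (B (N5 X (B (B v))))) + B (B (B (B (N5 X (B v)))))) := by abel
  rw [e1, e2, h]
  abel

include hX hB in
/-- the 48 dimensions -/
theorem six (h2' : (2 : K) ≠ 0) (h3 : ∀ x : W, x + x + x = 0) (h1 : ∀ v, X (B (B (X (B (B v))))) = -v)
    (h2 : ∀ v, X (X (B (X (X (B v))))) = -v) {u w w' : W} (hu : X u = u) (hw : B w = w) (hw' : B w' = w')
    (h : u + w + (X w' + X (X (X (X w')))) = 0) : u = 0 ∧ w = 0 ∧ w' = 0 := by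
  have eX : ∀ v, X (N5 X v) = N5 X v := by
    intro v
    rw [N5_apply]
    simp only [map_add, hX]
    abel
  have eN : ∀ v, N5 X (N5 X v) = -N5 X v := fun v => N5_five h3 (eX v)
  obtain ⟨r1, r2⟩ := relB hX hB h1 h2 hw
  obtain ⟨r1', r2'⟩ := relB hX hB h1 h2 hw'
  -- apply `N5 X`
  have a1 := congrArg (N5 X) h
  rw [map_add, map_add, map_add, map_zero, N5_five h3 hu, N5_shift hX, N5_shift hX, N5_shift hX, N5_shift hX,
    N5_shift hX] at a1
  -- a1 : -u + N w + (N w' + N w') = 0
  have hN3 := h3 (N5 X w')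
  have a2 : u = N5 X w - N5 X w' := by
    have : u = N5 X w - N5 X w' + (N5 X w' + N5 X w' + N5 X w') - (-u + N5 X w + (N5 X w' + N5 X w')) := by abel
    rw [this, a1, hN3]
    abel
  -- apply `N5 B`
  have b1 := congrArg (N5 B) h
  rw [map_add, map_add, map_add, map_zero, a2, map_sub, NN' hX hB h3 h1 h2 hw, NN' hX hB h3 h1 h2 hw', r1',
    N5_five h3 hw] at b1
  -- b1 : -w - -w' + -w + (.. + -..) = 0
  have hw3 := h3 w
  have b2 : w' = -w := by
    have : w' = (-w - -w' + -w + (N5 B (X w') + -N5 B (X w'))) + (w + w + w) - w := by abel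
    rw [this, b1, hw3]
    abel
  -- apply `X + X⁴`, then `N5 B`
  have c1 := congrArg (fun v => N5 B (X v + X (X (X (X v))))) h
  simp only [map_add, map_zero] at c1
  rw [hX, hu, hu, hu, hu, a2, map_sub, NN' hX hB h3 h1 h2 hw, NN' hX hB h3 h1 h2 hw', r1, r2', N5_five h3 hw'] at c1
  have d1 : w = 0 := by
    have hw3' := h3 w'
    have e : w + w = 0 := by
      have : w + w = -((-w - -w' + N5 B (X w) + (N5 B (X (X w')) + -w')) + (-w - -w' + -N5 B (X w) + (-w' + -N5 B (X (X w'))))) := by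
        abel
      rw [this]
      have c2 : (-w - -w' + N5 B (X w) + (N5 B (X (X w')) + -w')) + (-w - -w' + -N5 B (X w) + (-w' + -N5 B (X (X w')))) = 0 := by
        rw [c1, add_zero]
      rw [c2, neg_zero]
    have e2 : (2 : K) • w = 0 := by rw [two_smul]; exact e
    exact (smul_eq_zero.1 e2).resolve_left h2'
  have d2 : w' = 0 := by rw [b2, d1, neg_zero]
  refine ⟨?_, d1, d2⟩
  rw [a2, d1, d2, map_zero, sub_zero]

/-- nilpotent operators -/
theorem fin_map [FiniteDimensional K W] (N : Module.End K W) {P F : Submodule K W} (h : ∀ v ∈ P, N v = 0 → v ∈ F) :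
    finrank K ↥P ≤ finrank K ↥(P.map N) + finrank K ↥F := by
  have h1 := LinearMap.finrank_range_add_finrank_ker (N.domRestrict P)
  rw [LinearMap.range_domRestrict] at h1
  have h2 : finrank K ↥(LinearMap.ker (N.domRestrict P)) ≤ finrank K ↥F := by
    have h3 : (LinearMap.ker (N.domRestrict P)).map P.subtype ≤ F := by
      rintro _ ⟨v, hv, rfl⟩
      exact h v.1 v.2 hv
    have h4 := Submodule.finrank_mono h3
    rwa [LinearEquiv.finrank_eq (Submodule.equivMapOfInjective P.subtype P.subtype_injective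
      (LinearMap.ker (N.domRestrict P))).symm] at h4
  omega

/-- an operator of order 3 in characteristic 3 -/
theorem third [FiniteDimensional K W] (h3 : ∀ x : W, x + x + x = 0) {S : Module.End K W} (hS : ∀ v, S (S (S v)) = v)
    {P : Submodule K W} (hP : ∀ v ∈ P, S v ∈ P) : finrank K ↥P ≤ 3 * finrank K ↥(P ⊓ fx S) := by
  have hN : ∀ v, (S - 1) v = S v - v := fun v => rfl
  have hP' : ∀ v ∈ P, (S - 1) v ∈ P := fun v hv => P.sub_mem (hP v hv) hv
  have hF : ∀ v ∈ P, (S - 1) v = 0 → v ∈ P ⊓ fx S := fun v hv h => ⟨hv, mem_fx.2 (sub_eq_zero.1 h)⟩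
  have m1 : P.map (S - 1) ≤ P := by rintro _ ⟨v, hv, rfl⟩; exact hP' v hv
  have m2 : (P.map (S - 1)).map (S - 1) ≤ P := by rintro _ ⟨v, hv, rfl⟩; exact hP' v (m1 hv)
  have e1 := fin_map (S - 1) hF
  have e2 := fin_map (S - 1) (P := P.map (S - 1)) (F := P ⊓ fx S) fun v hv h => hF v (m1 hv) h
  have e3 : finrank K ↥((P.map (S - 1)).map (S - 1)) ≤ finrank K ↥(P ⊓ fx S) := by
    refine Submodule.finrank_mono ?_
    rintro _ ⟨_, ⟨v, hv, rfl⟩, rfl⟩
    refine ⟨hP' _ (hP' v hv), mem_fx.2 ?_⟩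
    rw [hN, hN, map_sub, map_sub, map_sub, hS]
    have h := h3 (S (S v))
    have h' := h3 (S v)
    have : v - S (S v) - (S (S v) - S v) = v - (S (S v) + S (S v) + S (S v)) + S (S v) + S v := by abel
    rw [this, h]
    have h5 : S (S v) - S v - (S v - v) = S (S v) - (S v + S v + S v) + S v + v := by abel
    rw [h5, h']
    abel
  omega

end lin

end Cfsg.Agent.R2.T1.N7C
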