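import Cfsg.Agent.R2.T1.N7C.Blk
import Cfsg.Agent.H944.E6Tab

/-!
# S5929: faithful modules of `2·A₇` in characteristic 3: the bound (helper6)

`bound` : `3 dim W^x + 3 dim W^(7:3) ≤ dim W` (`x` of order 5) and `dim W^y ≤ 3 dim W^(7:3)` (`y` of order 7).
-/

set_option autoImplicit false
set_option maxRecDepth 100000

namespace Cfsg.Agent.R2.T1.N7C

open Module
open Cfsg.Agent.H952.F4 (ev)

universe u v

section chk

theorem k_x5 : chkW (rp wx0 5) [] = true := by decide +kernel
theorem k_b5 : chkW (rp wx1 5) [] = true := by decide +kernel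
theorem k_r1 : chkW (wx0 ++ (wx1 ++ (wx1 ++ (wx0 ++ (wx1 ++ wx1))))) wz = true := by decide +kernel
theorem k_r2 : chkW (wx0 ++ (wx0 ++ (wx1 ++ (wx0 ++ (wx0 ++ wx1))))) wz = true := by decide +kernel
theorem k_s1 : chkW (wx1 ++ (wx0 ++ (wx0 ++ (wx1 ++ (wx0 ++ wx0))))) wz = true := by decide +kernel
theorem k_s2 : chkW (wx1 ++ (wx1 ++ (wx0 ++ (wx1 ++ (wx1 ++ wx0))))) wz = true := by decide +kernel
theorem k_t : chkW (wt ++ wx0) (wx1 ++ wt) = true := by decide +kernel
theorem k_g : chkW (wg ++ wx0) (rp wx0 2 ++ wg) = true := by decide +kernel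
theorem k_1 : chkW (wx1 ++ (wx0 ++ rp wx1 4)) (rp wx0 4 ++ (wx1 ++ wx0)) = true := by decide +kernel
theorem k_2 : chkW (rp wx1 2 ++ (wx0 ++ rp wx1 3)) (rp (rp wx0 2 ++ (wx1 ++ rp wx0 3)) 4) = true := by decide +kernel
theorem k_3 : chkW (rp wx1 3 ++ (wx0 ++ rp wx1 2)) (rp (rp wx0 3 ++ (wx1 ++ rp wx0 2)) 4) = true := by decide +kernel
theorem k_4 : chkW (rp wx1 4 ++ (wx0 ++ wx1)) (wx0 ++ (wx1 ++ rp wx0 4)) = true := by decide +kernel

end chk

section
variable {K : Type*} {W : Type*} [Field K] [AddCommGroup W] [Module K W]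

/-- conjugation -/
theorem N5_conj {P Q T : Module.End K W} (hPQ : ∀ v, P (Q v) = v) (hQP : ∀ v, Q (P v) = v) (v : W) :
    N5 (P * (T * Q)) v = P (N5 T (Q v)) := by
  simp only [N5_apply, Module.End.mul_apply, map_add, hPQ, hQP]

theorem N5_four {T : Module.End K W} (hT : ∀ v, T (T (T (T (T v)))) = v) (v : W) : N5 (T * (T * (T * T))) v = N5 T v := by
  simp only [N5_apply, Module.End.mul_apply, hT]
  abel

variable {G : Type u} [Group G] {g : ℕ → G} {z : G} (ρ : Representation K G W)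

theorem five_id (hR : WR 5 g z) {w : List ℕ} (h : chkW (rp w 5) [] = true) (v : W) :
    ρ (wd g w) (ρ (wd g w) (ρ (wd g w) (ρ (wd g w) (ρ (wd g w) v)))) = v := by
  have h1 : wd g w ^ 5 = 1 := word_pow hR h
  have h2 : (ρ (wd g w)) ^ 5 = 1 := by rw [← map_pow, h1, map_one]
  have h4 := congrArg (fun T : Module.End K W => T v) h2
  simpa only [pow_succ, pow_zero, one_mul, Module.End.mul_apply, Module.End.one_apply] using h4

/-- the two forms of the block idempotent -/
theorem Er_two (hR : WR 5 g z) (v : W) :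
    Er (ρ (wd g wx0)) (ρ (wd g wx1)) v = Er (ρ (wd g wx1)) (ρ (wd g wx0)) v := by
  have hX := five_id ρ hR k_x5
  have hB := five_id ρ hR k_b5
  refine Er_symm (fun v => ?_) v
  have e1 := congrArg (fun x => ρ x) (word_eq hR k_1)
  have e2 := congrArg (fun x => ρ x) (word_eq hR k_2)
  have e3 := congrArg (fun x => ρ x) (word_eq hR k_3)
  have e4 := congrArg (fun x => ρ x) (word_eq hR k_4)
  simp only [wd_append, wd_rp, map_mul, map_pow] at e1 e2 e3 e4
  set X := ρ (wd g wx0) with hXd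
  set B := ρ (wd g wx1) with hBd
  have p2 : ∀ (T : Module.End K W) (v : W), (T ^ 2) v = T (T v) := fun T v => by
    simp only [pow_succ, pow_zero, one_mul, Module.End.mul_apply]
  have p3 : ∀ (T : Module.End K W) (v : W), (T ^ 3) v = T (T (T v)) := fun T v => by
    simp only [pow_succ, pow_zero, one_mul, Module.End.mul_apply]
  have p4 : ∀ (T : Module.End K W) (v : W), (T ^ 4) v = T (T (T (T v))) := fun T v => by
    simp only [pow_succ, pow_zero, one_mul, Module.End.mul_apply]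
  have q4 : ∀ T : Module.End K W, T ^ 4 = T * (T * (T * T)) := fun T => by
    refine LinearMap.ext fun v => ?_
    rw [p4]
    rfl
  -- 1
  have t1 : B (N5 X (B (B (B (B v))))) = X (X (X (X (N5 B (X v))))) := by
    have h1 := N5_conj (P := B) (Q := B ^ 4) (T := X) (fun v => by rw [p4, hB]) (fun v => by rw [p4, hB]) v
    have h2 := N5_conj (P := X ^ 4) (Q := X) (T := B) (fun v => by rw [p4, hX]) (fun v => by rw [p4, hX]) v
    rw [e1] at h1
    rw [h1, p4, p4] at h2
    exact h2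
  have t4 : B (B (B (B (N5 X (B v))))) = X (N5 B (X (X (X (X v))))) := by
    have h1 := N5_conj (P := B ^ 4) (Q := B) (T := X) (fun v => by rw [p4, hB]) (fun v => by rw [p4, hB]) v
    have h2 := N5_conj (P := X) (Q := X ^ 4) (T := B) (fun v => by rw [p4, hX]) (fun v => by rw [p4, hX]) v
    rw [e4] at h1
    rw [h1, p4, p4] at h2
    exact h2
  have t2 : B (B (N5 X (B (B (B v))))) = X (X (N5 B (X (X (X v))))) := by
    have h1 := N5_conj (P := B ^ 2) (Q := B ^ 3) (T := X) (fun v => by rw [p2, p3, hB]) (fun v => by rw [p2, p3, hB]) v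
    have h2 := N5_conj (P := X ^ 2) (Q := X ^ 3) (T := B) (fun v => by rw [p2, p3, hX]) (fun v => by rw [p2, p3, hX]) v
    have h3 : ∀ v, (X ^ 2 * (B * X ^ 3)) ((X ^ 2 * (B * X ^ 3)) ((X ^ 2 * (B * X ^ 3)) ((X ^ 2 * (B * X ^ 3))
        ((X ^ 2 * (B * X ^ 3)) v)))) = v := by
      intro v
      simp only [Module.End.mul_apply, p2, p3, hX, hB]
    rw [e2, q4, N5_four h3] at h1
    rw [h1, p2, p3, p2, p3] at h2
    exact h2
  have t3 : B (B (B (N5 X (B (B v))))) = X (X (X (N5 B (X (X v))))) := by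
    have h1 := N5_conj (P := B ^ 3) (Q := B ^ 2) (T := X) (fun v => by rw [p2, p3, hB]) (fun v => by rw [p2, p3, hB]) v
    have h2 := N5_conj (P := X ^ 3) (Q := X ^ 2) (T := B) (fun v => by rw [p2, p3, hX]) (fun v => by rw [p2, p3, hX]) v
    have h3 : ∀ v, (X ^ 3 * (B * X ^ 2)) ((X ^ 3 * (B * X ^ 2)) ((X ^ 3 * (B * X ^ 2)) ((X ^ 3 * (B * X ^ 2))
        ((X ^ 3 * (B * X ^ 2)) v)))) = v := by
      intro v
      simp only [Module.End.mul_apply, p2, p3, hX, hB]
    rw [e3, q4, N5_four h3] at h1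
    rw [h1, p2, p3, p2, p3] at h2
    exact h2
  rw [t1, t2, t3, t4]
  abel

/-- **the bound** -/
theorem bound [FiniteDimensional K W] (h3 : (3 : K) = 0) (hR : WR 5 g z) (hz : ∀ v : W, ρ z v = -v) :
    3 * ev (ρ (wd g wx0)) 1 + 3 * finrank K ↥(fx (ρ (wd g wy)) ⊓ fx (ρ (wd g ws))) ≤ finrank K W ∧
      ev (ρ (wd g wy)) 1 ≤ 3 * finrank K ↥(fx (ρ (wd g wy)) ⊓ fx (ρ (wd g ws))) := by
  have h3' : ∀ x : W, x + x + x = 0 := by
    intro x
    have : x + x + x = (3 : K) • x := by module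
    rw [this, h3, zero_smul]
  have h2 : (2 : K) ≠ 0 := by
    intro h
    have : (1 : K) = 3 - 2 := by norm_num
    rw [h3, h, sub_zero] at this
    exact one_ne_zero this
  have hX := five_id ρ hR k_x5
  have hB := five_id ρ hR k_b5
  have r1 : ∀ v, ρ (wd g wx0) (ρ (wd g wx1) (ρ (wd g wx1) (ρ (wd g wx0) (ρ (wd g wx1) (ρ (wd g wx1) v))))) = -v := by
    intro v
    have h : ρ (wd g _) v = ρ (wd g _) v := congrArg (fun x => ρ x v) (word_eq hR k_r1)
    rwa [wd_wz hR, hz, wd_app, wd_app, wd_app, wd_app, wd_app] at h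
  have r2 : ∀ v, ρ (wd g wx0) (ρ (wd g wx0) (ρ (wd g wx1) (ρ (wd g wx0) (ρ (wd g wx0) (ρ (wd g wx1) v))))) = -v := by
    intro v
    have h : ρ (wd g _) v = ρ (wd g _) v := congrArg (fun x => ρ x v) (word_eq hR k_r2)
    rwa [wd_wz hR, hz, wd_app, wd_app, wd_app, wd_app, wd_app] at h
  have s1 : ∀ v, ρ (wd g wx1) (ρ (wd g wx0) (ρ (wd g wx0) (ρ (wd g wx1) (ρ (wd g wx0) (ρ (wd g wx0) v))))) = -v := by
    intro v
    have h : ρ (wd g _) v = ρ (wd g _) v := congrArg (fun x => ρ x v) (word_eq hR k_s1)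
    rwa [wd_wz hR, hz, wd_app, wd_app, wd_app, wd_app, wd_app] at h
  have s2 : ∀ v, ρ (wd g wx1) (ρ (wd g wx1) (ρ (wd g wx0) (ρ (wd g wx1) (ρ (wd g wx1) (ρ (wd g wx0) v))))) = -v := by
    intro v
    have h : ρ (wd g _) v = ρ (wd g _) v := congrArg (fun x => ρ x v) (word_eq hR k_s2)
    rwa [wd_wz hR, hz, wd_app, wd_app, wd_app, wd_app, wd_app] at h
  have hcert := fun v0 v1 v2 a b c d e f h => cert ρ h3 hR hz (v0 := v0) (v1 := v1) (v2 := v2) a b c d e f h
  have hE2 := Er_two ρ hR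
  have hYS : ∀ v, ρ (wd g wy) v = v → ρ (wd g wy) (ρ (wd g ws) v) = ρ (wd g ws) v := by
    intro v hv
    have h : ρ (wd g _) v = ρ (wd g _) v := congrArg (fun x => ρ x v) (word_eq hR chk_sy)
    rw [wd_app, hv, wd_app, wd_rp, pow_two, map_mul, Module.End.mul_apply] at h
    -- h : S v = Y (Y (S v))
    have h7 : ∀ u, ρ (wd g wy) (ρ (wd g wy) (ρ (wd g wy) (ρ (wd g wy) (ρ (wd g wy) (ρ (wd g wy) (ρ (wd g wy) u)))))) = u := by
      intro u
      have h1 : wd g wy ^ 7 = 1 := word_pow hR chk_y7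
      have h2 : (ρ (wd g wy)) ^ 7 = 1 := by rw [← map_pow, h1, map_one]
      have h4 := congrArg (fun T : Module.End K W => T u) h2
      simpa only [pow_succ, pow_zero, one_mul, Module.End.mul_apply, Module.End.one_apply] using h4
    have h8 := h7 (ρ (wd g ws) v)
    rw [← h, ← h, ← h] at h8
    exact h8
  have hS3 : ∀ v, ρ (wd g ws) (ρ (wd g ws) (ρ (wd g ws) v)) = v := by
    intro v
    have h1 : wd g ws ^ 3 = 1 := word_pow hR chk_s3
    have h2 : (ρ (wd g ws)) ^ 3 = 1 := by rw [← map_pow, h1, map_one]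
    have h4 := congrArg (fun T : Module.End K W => T v) h2
    simpa only [pow_succ, pow_zero, one_mul, Module.End.mul_apply, Module.End.one_apply] using h4
  have hev : ev (ρ (wd g wx1)) 1 = ev (ρ (wd g wx0)) 1 := by
    have h := word_eq hR k_t
    rw [wd_append, wd_append] at h
    have h1 : wd g wx1 = wd g wt * wd g wx0 * (wd g wt)⁻¹ := by rw [h, mul_inv_cancel_right]
    rw [h1, Cfsg.Agent.H944.E6T.ev_conj]
  set X := ρ (wd g wx0) with hXd
  set B := ρ (wd g wx1) with hBd
  set F := fx (ρ (wd g wy)) ⊓ fx (ρ (wd g ws)) with hFd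
  have hmF : ∀ v : ↥F, ρ (wd g wy) v = v ∧ ρ (wd g ws) v = v := fun v => ⟨mem_fx.1 v.2.1, mem_fx.1 v.2.2⟩
  constructor
  · -- the linear map
    let Θ : (↥(fx X) × ↥(fx B) × ↥(fx B)) × (↥F × ↥F × ↥F) →ₗ[K] W :=
      { toFun := fun p => ((p.1.1 : W) + (p.1.2.1 : W) + (X (p.1.2.2 : W) + X (X (X (X (p.1.2.2 : W)))))) +
          ((p.2.1 : W) + X (p.2.2.1 : W) + X (X (p.2.2.2 : W)))
        map_add' := by
          intro p q
          simp only [Prod.fst_add, Prod.snd_add, Submodule.coe_add, map_add]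
          abel
        map_smul' := by
          intro c p
          simp only [Prod.smul_fst, Prod.smul_snd, Submodule.coe_smul, map_smul, RingHom.id_apply, smul_add] }
    have hinj : Function.Injective Θ := by
      rw [← LinearMap.ker_eq_bot, LinearMap.ker_eq_bot']
      rintro ⟨⟨u, w, w'⟩, v0, v1, v2⟩ hp
      have hp' : ((u : W) + (w : W) + (X (w' : W) + X (X (X (X (w' : W)))))) +
          ((v0 : W) + X (v1 : W) + X (X (v2 : W))) = 0 := hp
      have hu := mem_fx.1 u.2
      have hw := mem_fx.1 w.2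
      have hw' := mem_fx.1 w'.2
      have kX : Er X B (u : W) = 0 := Er_X hX hB h3' r1 r2 hu
      -- the other relations for the other form
      have kB : ∀ x : W, B x = x → Er X B x = 0 := by
        intro x hx
        rw [hE2]
        exact Er_X hB hX h3' s1 s2 hx
      have kE : Er X B ((u : W) + (w : W) + (X (w' : W) + X (X (X (X (w' : W)))))) = 0 := by
        rw [map_add, map_add, map_add, kX, kB _ hw, Er_comm hX, Er_comm hX, Er_comm hX, Er_comm hX, Er_comm hX, kB _ hw']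
        simp
      have k0 := congrArg (Er X B) hp'
      rw [map_add, kE, zero_add, map_zero] at k0
      have c0 : (v0 : W) = 0 := hcert _ _ _ (hmF v0).1 (hmF v0).2 (hmF v1).1 (hmF v1).2 (hmF v2).1 (hmF v2).2 k0
      have k1 : Er X B ((v1 : W) + X (v2 : W) + X (X (0 : W))) = 0 := by
        rw [c0, zero_add, ← map_add, Er_comm hX] at k0
        have h4 := congrArg (fun t => X (X (X (X t)))) k0
        simp only [map_zero] at h4
        rw [hX] at h4
        rw [map_zero, map_zero, add_zero]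
        exact h4
      have c1 : (v1 : W) = 0 := hcert _ _ _ (hmF v1).1 (hmF v1).2 (hmF v2).1 (hmF v2).2 (map_zero _) (map_zero _) k1
      have k2 : Er X B ((v2 : W) + X (0 : W) + X (X (0 : W))) = 0 := by
        rw [c1, zero_add, map_zero, map_zero, add_zero, Er_comm hX] at k1
        have h4 := congrArg (fun t => X (X (X (X t)))) k1
        simp only [map_zero] at h4
        rw [hX] at h4
        rw [map_zero, map_zero, add_zero, add_zero]
        exact h4
      have c2 : (v2 : W) = 0 := hcert _ _ _ (hmF v2).1 (hmF v2).2 (map_zero _) (map_zero _) (map_zero _) (map_zero _) k2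
      rw [c0, c1, c2, map_zero, map_zero, add_zero, add_zero, add_zero] at hp'
      obtain ⟨d1, d2, d3⟩ := six hX hB h2 h3' r1 r2 hu hw hw' hp'
      exact Prod.ext (Prod.ext (Subtype.ext d1) (Prod.ext (Subtype.ext d2) (Subtype.ext d3)))
        (Prod.ext (Subtype.ext c0) (Prod.ext (Subtype.ext c1) (Subtype.ext c2)))
    have h4 := LinearMap.finrank_le_finrank_of_injective hinj
    rw [finrank_prod, finrank_prod, finrank_prod, finrank_prod, finrank_prod] at h4
    have e1 : ev X 1 = finrank K ↥(fx X) := rfl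
    have e2 : ev B 1 = finrank K ↥(fx B) := rfl
    omega
  · exact third h3' hS3 (P := fx (ρ (wd g wy))) fun v hv => mem_fx.2 (hYS v (mem_fx.1 hv))

end

end Cfsg.Agent.R2.T1.N7C
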