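import Cfsg.Agent.R2.T1.N7C.M7c
import Cfsg.Agent.R2.T1.N7C.Lin

/-!
# S5929: the certificate for `2·A₇` in characteristic 3, representations (helper6)

`cert` : if `v₀, v₁, v₂` are fixed by the group `7:3` and the block idempotent `Er` of `2·A₅` kills `v₀ + x v₁ + x² v₂`
then `v₀ = 0`.
-/

set_option autoImplicit false
set_option maxRecDepth 100000

namespace Cfsg.Agent.R2.T1.N7C

open Module

universe u v

section
variable {K : Type*} {W : Type*} [Field K] [AddCommGroup W] [Module K W]

/-- the block idempotent of `2·A₅` -/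
def Er (X B : Module.End K W) : Module.End K W :=
  1 - N5 X - (N5 B + X * (N5 B * (X * (X * (X * X)))) + X * (X * (N5 B * (X * (X * X)))) +
    X * (X * (X * (N5 B * (X * X)))) + X * (X * (X * (X * (N5 B * X)))))

theorem Er_apply (X B : Module.End K W) (v : W) : Er X B v = v - N5 X v - (N5 B v + X (N5 B (X (X (X (X v))))) +
    X (X (N5 B (X (X (X v))))) + X (X (X (N5 B (X (X v))))) + X (X (X (X (N5 B (X v)))))) := rfl

/-- `1 + T + ⋯ + T⁶` -/
def N7 (T : Module.End K W) : Module.End K W :=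
  1 + T + T * T + T * (T * T) + T * (T * (T * T)) + T * (T * (T * (T * T))) + T * (T * (T * (T * (T * T))))

theorem N7_apply (T : Module.End K W) (v : W) : N7 T v = v + T v + T (T v) + T (T (T v)) + T (T (T (T v))) +
    T (T (T (T (T v)))) + T (T (T (T (T (T v))))) := rfl

theorem N7_shift {T : Module.End K W} (hT : ∀ v, T (T (T (T (T (T (T v)))))) = v) (v : W) : N7 T (T v) = N7 T v := by
  rw [N7_apply, N7_apply, hT]; abel

variable {G : Type u} [Group G] {g : ℕ → G} {z : G} (ρ : Representation K G W)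

theorem wd_app (g : ℕ → G) (w w' : List ℕ) (v : W) : ρ (wd g (w ++ w')) v = ρ (wd g w) (ρ (wd g w') v) := by
  rw [wd_append, map_mul]; rfl

theorem wd_nil' (g : ℕ → G) (v : W) : ρ (wd g []) v = v := by rw [wd_nil, map_one]; rfl

theorem wd_z (hR : WR 5 g z) (hz : ∀ v : W, ρ z v = -v) (w : List ℕ) (v : W) :
    ρ (wd g (wz ++ w)) v = -ρ (wd g w) v := by
  rw [wd_app, wd_wz hR, hz]

theorem Er_list (hR : WR 5 g z) (hz : ∀ v : W, ρ z v = -v) (v : W) :
    (er.map fun w => ρ (wd g w) v).sum = Er (ρ (wd g wx0)) (ρ (wd g wx1)) v := by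
  have h5 : List.range 5 = [0, 1, 2, 3, 4] := rfl
  rw [Er_apply]
  unfold er
  rw [h5]
  simp only [List.map_cons, List.map_nil, List.flatMap_cons, List.flatMap_nil, List.map_append, List.sum_cons,
    List.sum_nil, List.sum_append, List.append_nil, wd_z ρ hR hz, N5_apply]
  have e : ∀ k : ℕ, k < 5 → ((5 - k) % 5 = if k = 0 then 0 else 5 - k) := by decide
  simp only [rp, wd_app, wd_nil', map_add, List.append_nil, Nat.sub_zero, Nat.mod_self, Nat.reduceSub, Nat.reduceMod]
  abel

theorem sum_flat {α β : Type*} (l : List α) (f : α → List β) (h : β → W) :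
    ((l.flatMap f).map h).sum = (l.map fun a => ((f a).map h).sum).sum := by
  induction l with
  | nil => rfl
  | cons a l ih => rw [List.flatMap_cons, List.map_append, List.sum_append, ih, List.map_cons, List.sum_cons]

theorem er_vw : er.all vw = true := by decide +kernel

theorem sW_vw : sW.all vw = true := by decide +kernel

theorem ptE_lt {j : ℕ} {p : ℕ} (h : p ∈ ptE j) : p < 240 := by
  unfold ptE at h
  obtain ⟨e, he, rfl⟩ := List.mem_map.1 h
  exact act_lt (List.all_eq_true.1 er_vw e he) (act_lt (vw_rp (by decide) j) (by norm_num))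

theorem ptL_lt {j : ℕ} {p : ℕ} (h : p ∈ ptL j) : p < 240 := by
  unfold ptL at h
  obtain ⟨s, hs, hp⟩ := List.mem_flatMap.1 h
  obtain ⟨q, hq, rfl⟩ := List.mem_map.1 hp
  exact act_lt (List.all_eq_true.1 sW_vw s hs) (ptE_lt hq)

/-- the certificate, as an operator -/
theorem cert_list (hR : WR 5 g z) (hz : ∀ v : W, ρ z v = -v) {v : W} (hy : ρ (wd g wy) v = v)
    (hs : ρ (wd g ws) v = v) (j : ℕ) :
    (sW.map fun s => ρ (wd g s) (Er (ρ (wd g wx0)) (ρ (wd g wx1)) (ρ (wd g (rp wx0 j)) v))).sum =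
      ((ptL j).map (fv ρ g v)).sum := by
  have hE : Er (ρ (wd g wx0)) (ρ (wd g wx1)) (ρ (wd g (rp wx0 j)) v) = ((ptE j).map (fv ρ g v)).sum := by
    rw [← Er_list ρ hR hz, ptE, List.map_map]
    congr 1
    refine List.map_congr_left fun e he => ?_
    rw [fv_word ρ hR hy hs (vw_rp (by decide) j), Function.comp_apply,
      fv_act ρ hR hy hs (List.all_eq_true.1 er_vw e he) (act_lt (vw_rp (by decide) j) (by norm_num))]
  rw [hE, ptL, sum_flat]
  congr 1
  refine List.map_congr_left fun s hs' => ?_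
  rw [map_list_sum, List.map_map, List.map_map]
  congr 1
  refine List.map_congr_left fun p hp => ?_
  rw [Function.comp_apply, Function.comp_apply, fv_act ρ hR hy hs (List.all_eq_true.1 sW_vw s hs') (ptE_lt hp)]

theorem cl_ok {p : ℕ} (hp : p < 240) : cl p < 240 ∧ ∃ k < 7, act (rp wy k) p = cl p := by
  have h := okC_true
  unfold okC at h
  have h1 := List.all_eq_true.1 h p (List.mem_range.2 hp)
  rw [Bool.and_eq_true] at h1
  refine ⟨Nat.le_of_ble_eq_true h1.1, ?_⟩
  obtain ⟨k, hk, hk'⟩ := List.any_eq_true.1 h1.2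
  exact ⟨k, List.mem_range.1 hk, Nat.eq_of_beq_eq_true hk'⟩

theorem cnt_cons (c p : ℕ) (l : List ℕ) : cnt c (p :: l) = cnt c l + if cl p = c then 1 else 0 := by
  unfold cnt
  rw [List.countP_cons]
  congr 1
  by_cases h : cl p = c
  · rw [if_pos h, h, if_pos (Nat.beq_refl c)]
  · rw [if_neg h, if_neg fun h' => h (Nat.eq_of_beq_eq_true h')]

/-- counting -/
theorem count_sum (h3 : ∀ x : W, x + x + x = 0) {Fh : ℕ → W} (hF : ∀ c < 240, Fh ((c + 120) % 240) = -Fh c)
    (l : List ℕ) (hl : ∀ p ∈ l, cl p < 240) :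
    (l.map fun p => Fh (cl p)).sum = ∑ c ∈ Finset.range 120, (cnt c l + 2 * cnt (c + 120) l) • Fh c := by
  induction l with
  | nil =>
    rw [List.map_nil, List.sum_nil]
    symm
    refine Finset.sum_eq_zero fun c _ => ?_
    show (0 + 2 * 0) • Fh c = 0
    rw [mul_zero, add_zero, zero_smul]
  | cons p l ih =>
    rw [List.map_cons, List.sum_cons, ih fun q hq => hl q (List.mem_cons_of_mem _ hq)]
    have hp := hl p List.mem_cons_self
    have key : ∀ c, (cnt c (p :: l) + 2 * cnt (c + 120) (p :: l)) • Fh c =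
        (if cl p = c then Fh c else 0) + (if cl p = c + 120 then Fh (cl p) else 0) +
          (cnt c l + 2 * cnt (c + 120) l) • Fh c := by
      intro c
      rw [cnt_cons, cnt_cons]
      by_cases h1 : cl p = c
      · have h2 : ¬ cl p = c + 120 := by omega
        rw [if_pos h1, if_neg h2, if_pos h1, if_neg h2]
        simp only [add_smul, one_smul, add_zero]
        abel
      · rw [if_neg h1, if_neg h1]
        by_cases h2 : cl p = c + 120
        · rw [if_pos h2, if_pos h2]
          have h4 : Fh (cl p) = -Fh c := by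
            rw [← hF c (by omega), h2, Nat.mod_eq_of_lt (by omega)]
          rw [h4]
          have h5 := h3 (Fh c)
          have h6 : -Fh c = Fh c + Fh c := by
            rw [neg_eq_iff_add_eq_zero, ← h5]; abel
          rw [h6]
          simp only [add_smul, mul_smul, one_smul, zero_smul, smul_add, two_smul, add_zero]
          abel
        · rw [if_neg h2, if_neg h2, add_zero, add_zero, add_zero, zero_add]
    rw [Finset.sum_congr rfl fun c _ => key c, Finset.sum_add_distrib, Finset.sum_add_distrib]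
    congr 1
    by_cases h1 : cl p < 120
    · have e1 : ∑ c ∈ Finset.range 120, (if cl p = c then Fh c else 0) = Fh (cl p) := by
        rw [Finset.sum_ite_eq, if_pos (Finset.mem_range.2 h1)]
      have e2 : ∑ c ∈ Finset.range 120, (if cl p = c + 120 then Fh (cl p) else 0) = 0 := by
        refine Finset.sum_eq_zero fun c _ => if_neg (by omega)
      rw [e1, e2, add_zero]
    · have e1 : ∑ c ∈ Finset.range 120, (if cl p = c then Fh c else 0) = 0 := by
        refine Finset.sum_eq_zero fun c hc => if_neg ?_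
        have := Finset.mem_range.1 hc
        omega
      have e2 : ∑ c ∈ Finset.range 120, (if cl p = c + 120 then Fh (cl p) else 0) = Fh (cl p) := by
        rw [Finset.sum_eq_single (cl p - 120)]
        · rw [if_pos (by omega)]
        · intro b _ hb
          rw [if_neg (by omega)]
        · intro h
          exact absurd (Finset.mem_range.2 (by omega)) h
      rw [e1, e2, zero_add]

theorem smul_mod (h3 : ∀ x : W, x + x + x = 0) (n : ℕ) (x : W) : n • x = (n % 3) • x := by
  have h1 : (3 : ℕ) • x = 0 := by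
    rw [show (3 : ℕ) = 1 + 1 + 1 by norm_num, add_smul, add_smul, one_smul, h3]
  conv_lhs => rw [← Nat.div_add_mod n 3, add_smul, mul_comm, mul_smul, h1, smul_zero, zero_add]

theorem okN_sum (h3 : ∀ x : W, x + x + x = 0) {Fh : ℕ → W} (hF : ∀ c < 240, Fh ((c + 120) % 240) = -Fh c) {j : ℕ}
    (hj : okN j = true) : ((ptL j).map fun p => Fh (cl p)).sum = if j = 0 then Fh 0 else 0 := by
  rw [count_sum h3 hF _ fun p hp => (cl_ok (ptL_lt hp)).1]
  unfold okN at hj
  have h1 : ∀ c ∈ Finset.range 120, (cnt c (ptL j) + 2 * cnt (c + 120) (ptL j)) • Fh c =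
      if j = 0 ∧ c = 0 then Fh c else 0 := by
    intro c hc
    have h2 := Nat.eq_of_beq_eq_true (List.all_eq_true.1 hj c (List.mem_range.2 (Finset.mem_range.1 hc)))
    rw [smul_mod h3, h2]
    by_cases h4 : j = 0 ∧ c = 0
    · rw [if_pos h4]
      obtain ⟨rfl, rfl⟩ := h4
      show 1 • Fh 0 = Fh 0
      rw [one_smul]
    · rw [if_neg h4]
      have h5 : (Nat.beq j 0 && Nat.beq c 0) = false := by
        cases h6 : (Nat.beq j 0 && Nat.beq c 0)
        · rfl
        · rw [Bool.and_eq_true] at h6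
          exact absurd ⟨Nat.eq_of_beq_eq_true h6.1, Nat.eq_of_beq_eq_true h6.2⟩ h4
      rw [h5]
      show 0 • Fh c = 0
      rw [zero_smul]
  rw [Finset.sum_congr rfl h1]
  by_cases hj0 : j = 0
  · rw [if_pos hj0, Finset.sum_eq_single 0]
    · rw [if_pos ⟨hj0, rfl⟩]
    · intro b _ hb
      rw [if_neg fun h => hb h.2]
    · intro h
      exact absurd (Finset.mem_range.2 (by norm_num)) h
  · rw [if_neg hj0]
    exact Finset.sum_eq_zero fun c _ => if_neg fun h => hj0 h.1

/-- the certificate applied to one vector -/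
theorem cert_one (h3 : (3 : K) = 0) (hR : WR 5 g z) (hz : ∀ v : W, ρ z v = -v) {v : W} (hy : ρ (wd g wy) v = v)
    (hs : ρ (wd g ws) v = v) {j : ℕ} (hj : okN j = true) :
    N7 (ρ (wd g wy)) (sW.map fun s => ρ (wd g s) (Er (ρ (wd g wx0)) (ρ (wd g wx1)) (ρ (wd g (rp wx0 j)) v))).sum =
      if j = 0 then v else 0 := by
  have h3' : ∀ x : W, x + x + x = 0 := by
    intro x
    have : x + x + x = (3 : K) • x := by module
    rw [this, h3, zero_smul]
  set Y := ρ (wd g wy) with hY
  have hY7 : ∀ v, Y (Y (Y (Y (Y (Y (Y v)))))) = v := by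
    intro v
    have h1 : wd g wy ^ 7 = 1 := word_pow hR chk_y7
    have h2 : Y ^ 7 = 1 := by rw [hY, ← map_pow, h1, map_one]
    have h4 := congrArg (fun T : Module.End K W => T v) h2
    simpa only [pow_succ, pow_zero, one_mul, Module.End.mul_apply, Module.End.one_apply] using h4
  rw [cert_list ρ hR hz hy hs, map_list_sum, List.map_map]
  have hcl : ∀ p < 240, N7 Y (fv ρ g v p) = N7 Y (fv ρ g v (cl p)) := by
    intro p hp
    obtain ⟨-, k, -, hk⟩ := cl_ok hp
    rw [← hk]
    have h1 : ∀ n, N7 Y (fv ρ g v (act (rp wy n) p)) = N7 Y (fv ρ g v p) := by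
      intro n
      induction n with
      | zero => rfl
      | succ n ih =>
        show N7 Y (fv ρ g v (act (wy ++ rp wy n) p)) = _
        rw [act_append, ← fv_act ρ hR hy hs (by decide) (act_lt (vw_rp (by decide) n) hp), ← hY, N7_shift hY7, ih]
    rw [h1]
  have e1 : (ptL j).map (⇑(N7 Y) ∘ fv ρ g v) = (ptL j).map fun p => N7 Y (fv ρ g v (cl p)) :=
    List.map_congr_left fun p hp => hcl p (ptL_lt hp)
  rw [e1, okN_sum h3' (Fh := fun c => N7 Y (fv ρ g v c)) (fun c hc => by
    rw [fv_neg ρ hR hz hy hs hc, map_neg]) hj]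
  have h0 : fv ρ g v 0 = v := by
    have h1 := fv_word ρ hR hy hs (w := []) rfl
    rw [wd_nil'] at h1
    exact h1.symm
  split_ifs
  · show N7 Y (fv ρ g v 0) = v
    rw [h0, N7_apply, hy, hy, hy, hy, hy, hy]
    have h1 := h3' v
    have : v + v + v + v + v + v + v = (v + v + v) + (v + v + v) + v := by abel
    rw [this, h1, zero_add, zero_add]
  · rfl

/-- **the certificate** -/
theorem cert (h3 : (3 : K) = 0) (hR : WR 5 g z) (hz : ∀ v : W, ρ z v = -v) {v0 v1 v2 : W}
    (hy0 : ρ (wd g wy) v0 = v0) (hs0 : ρ (wd g ws) v0 = v0) (hy1 : ρ (wd g wy) v1 = v1) (hs1 : ρ (wd g ws) v1 = v1)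
    (hy2 : ρ (wd g wy) v2 = v2) (hs2 : ρ (wd g ws) v2 = v2)
    (h : Er (ρ (wd g wx0)) (ρ (wd g wx1)) (v0 + ρ (wd g wx0) v1 + ρ (wd g wx0) (ρ (wd g wx0) v2)) = 0) : v0 = 0 := by
  have c0 := cert_one ρ h3 hR hz hy0 hs0 okN_zero
  have c1 := cert_one ρ h3 hR hz hy1 hs1 okN_one
  have c2 := cert_one ρ h3 hR hz hy2 hs2 okN_two
  rw [if_pos rfl] at c0
  rw [if_neg (by norm_num)] at c1 c2
  have e0 : ρ (wd g (rp wx0 0)) v0 = v0 := wd_nil' ρ g v0
  have e1 : ρ (wd g (rp wx0 1)) v1 = ρ (wd g wx0) v1 := by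
    show ρ (wd g (wx0 ++ [])) v1 = _
    rw [List.append_nil]
  have e2 : ρ (wd g (rp wx0 2)) v2 = ρ (wd g wx0) (ρ (wd g wx0) v2) := by
    show ρ (wd g (wx0 ++ (wx0 ++ []))) v2 = _
    rw [List.append_nil, wd_app]
  rw [e0] at c0
  rw [e1] at c1
  rw [e2] at c2
  rw [← c0]
  have h4 : ∀ l : List (List ℕ), (l.map fun s => ρ (wd g s) (Er (ρ (wd g wx0)) (ρ (wd g wx1)) v0)).sum +
      (l.map fun s => ρ (wd g s) (Er (ρ (wd g wx0)) (ρ (wd g wx1)) (ρ (wd g wx0) v1))).sum +
      (l.map fun s => ρ (wd g s) (Er (ρ (wd g wx0)) (ρ (wd g wx1)) (ρ (wd g wx0) (ρ (wd g wx0) v2)))).sum = 0 := by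
    intro l
    induction l with
    | nil => simp
    | cons s l ih =>
      simp only [List.map_cons, List.sum_cons]
      have h5 := congrArg (ρ (wd g s)) h
      rw [map_add, map_add, map_add, map_add, map_zero] at h5
      have h6 := congrArg₂ (· + ·) h5 ih
      simp only [add_zero] at h6
      rw [← h6]
      abel
  have h5 := congrArg (N7 (ρ (wd g wy))) (h4 sW)
  rw [map_add, map_add, c1, c2, add_zero, add_zero, map_zero] at h5
  exact h5

end

end Cfsg.Agent.R2.T1.N7C
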