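import Cfsg.Agent.R2.T1.N6B.Eig
import Cfsg.Agent.R2.T1.Pat2.El2
import Cfsg.Agent.R2.T1.E5.Six

/-!
# S5929, box sev3c: elements of order 8 and 7 on the adjoint module (helper5)

* `eight_L` : if `x ^ 4 = -1` on the module of degree 56: the dimensions of the fixed points of `x`, `x ^ 2` on the
  adjoint module;
* `seven_L` : elements of order 7 conjugate to their squares.
-/

set_option autoImplicit false
set_option maxRecDepth 100000

universe u v

namespace Cfsg.Agent.R2.T1.N7C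

open Cfsg Cfsg.Lie Module
open Cfsg.Agent.H943.E7V.Block (D1 rho)
open Cfsg.Agent.H952.F4 (ev es)
open Cfsg.Agent.R2.T1 Cfsg.Agent.R2.T1.Odd Cfsg.Agent.R2.T1.N6B Cfsg.Agent.R2.T1.Pat2

/-- the property of the rows of order 8 -/
def Q8 (m l : ℕ → ℕ) : Bool := !(Nat.beq (m 0) 0 && Nat.beq (m 2) 0 && Nat.beq (m 4) 0) ||
  ((Nat.beq (l 0) 79 && Nat.beq (l 4) 0) || (Nat.beq (l 0) 49 && Nat.beq (l 4) 14) ||
   (Nat.beq (l 0) 47 && Nat.beq (l 4) 32) || (Nat.beq (l 0) 33 && Nat.beq (l 4) 30) ||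
   (Nat.beq (l 0) 39 && Nat.beq (l 4) 40))

theorem chkQ8 : chkQ 8 Q8 = true := by decide +kernel

section
variable {F : Type u} [Field F] [Finite F]

theorem eight_L (h2 : (2 : F) ≠ 0) {x : Gh F} (hx : V F (x ^ 4) = -1) :
    (ev (L F x) 1 = 79 ∧ ev (L F x) (-1) = 0 ∧ ev (L F (x ^ 2)) 1 = 79) ∨
    (ev (L F x) 1 = 49 ∧ ev (L F x) (-1) = 14 ∧ ev (L F (x ^ 2)) 1 = 63) ∨
    (ev (L F x) 1 = 47 ∧ ev (L F x) (-1) = 32 ∧ ev (L F (x ^ 2)) 1 = 79) ∨
    (ev (L F x) 1 = 33 ∧ ev (L F x) (-1) = 30 ∧ ev (L F (x ^ 2)) 1 = 63) ∨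
    (ev (L F x) 1 = 39 ∧ ev (L F x) (-1) = 40 ∧ ev (L F (x ^ 2)) 1 = 79) := by
  have h8 : x ^ 8 = 1 := sq_one hx
  have h8F : ((8 : ℕ) : F) ≠ 0 := two_pow_ne h2 3
  obtain ⟨p, hpp, hp, hcop⟩ := exists_char h8F
  obtain ⟨ζ, hζ, m, l, hQ, h1⟩ := patQ chkQ8 (by norm_num) p hcop h8
  set f := algebraMap F (AlgebraicClosure F) with hf
  have h2K : (2 : AlgebraicClosure F) ≠ 0 := by
    have h := (map_ne_zero f).2 h2
    rwa [map_ofNat] at h
  have hζ4 : ζ ^ 4 = -1 := by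
    have h6 : ζ ^ 4 * ζ ^ 4 = 1 := by rw [← pow_add]; exact hζ.pow_eq_one
    rcases mul_self_eq_one_iff.1 h6 with h7 | h7
    · exact absurd h7 (hζ.pow_ne_one_of_pos_of_lt (by norm_num) (by norm_num))
    · exact h7
  have hk := emb_neg f h2 hx
  rw [map_pow] at hk
  have e0 := (h1 0 (by norm_num)).1
  have e2 := (h1 2 (by norm_num)).1
  have e4 := (h1 4 (by norm_num)).1
  have l0 := (h1 0 (by norm_num)).2
  have l4 := (h1 4 (by norm_num)).2
  rw [ev_zero_of h2K hk (by rw [pow_zero, one_pow])] at e0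
  rw [ev_zero_of h2K hk (by rw [← pow_mul, show 4 * 4 = 8 * 2 by norm_num, pow_mul, hζ.pow_eq_one, one_pow])] at e4
  rw [ev_zero_of h2K hk (by rw [← pow_mul, show 2 * 4 = 8 by norm_num, hζ.pow_eq_one])] at e2
  rw [pow_zero, ev_L_one] at l0
  have l4' : ev (L F x) (-1) = l 4 := by
    rw [← l4, hζ4]
    exact (ev_L_neg_one f x).symm
  have hs : ev (L F (x ^ 2)) 1 = ev (L F x) 1 + ev (L F x) (-1) := by
    rw [map_pow]
    exact E5.ev_sq h2 _
  rw [hs, l0, l4']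
  unfold Q8 at hQ
  simp only [← e0, ← e2, ← e4, Nat.beq_refl, Bool.and_self, Bool.not_true, Bool.false_or, Bool.or_eq_true, Bool.and_eq_true,
    Nat.beq_eq] at hQ
  omega

omit [Finite F] in
/-- the powers of `w`, `w ^ 4 = 1`, applied to an eigenspace of `x` -/
theorem orb_le {K : Type u} [Field K] {M : Type v} [AddCommGroup M] [Module K M] [FiniteDimensional K M]
    {X W : Module.End K M} (hXW : ∀ v, X (W v) = W (X (X (X v)))) (hW : ∀ v, W (W (W (W v))) = v) {η : K}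
    (hη : IsPrimitiveRoot η 5) : ev X η ≤ ev W (-1) := by
  have hne : ∀ i j : ℕ, i < 5 → j < 5 → i ≠ j → η ^ i - η ^ j ≠ 0 := fun i j hi hj hij =>
    sub_ne_zero.2 fun h => hij (hη.pow_inj hi hj h)
  have hη5 := hη.pow_eq_one
  let T : M →ₗ[K] M := 1 - W + W * W - W * W * W
  have hT : ∀ v, T v = v - W v + W (W v) - W (W (W v)) := fun _ => rfl
  have hmem : ∀ v, T v ∈ Module.End.eigenspace W (-1) := by
    intro v
    rw [Module.End.mem_eigenspace_iff, hT, map_sub, map_add, map_sub, hW, neg_one_smul]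
    abel
  let S : ↥(Module.End.eigenspace X η) →ₗ[K] ↥(Module.End.eigenspace W (-1)) :=
    (T.comp (Module.End.eigenspace X η).subtype).codRestrict _ fun v => hmem v
  refine LinearMap.finrank_le_finrank_of_injective (f := S) ?_
  rw [injective_iff_map_eq_zero]
  rintro ⟨a, ha⟩ h
  have h0 : T a = 0 := congrArg Subtype.val h
  rw [hT] at h0
  rw [Module.End.mem_eigenspace_iff] at ha
  have key : ∀ (μ : K) (u : M), X u = μ • u → X (W u) = μ ^ 3 • W u := by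
    intro μ u hu
    have e1 : X (X (X u)) = μ ^ 3 • u := by
      rw [hu, map_smul, hu, map_smul, map_smul, hu, smul_smul, smul_smul]
      congr 1
      ring
    rw [hXW, e1, map_smul]
  have h1 : X (W a) = η ^ 3 • W a := key η a ha
  have h2 : X (W (W a)) = η ^ 4 • W (W a) := by
    rw [key _ _ h1]
    congr 1
    linear_combination η ^ 4 * hη5
  have h3 : X (W (W (W a))) = η ^ 2 • W (W (W a)) := by
    rw [key _ _ h2]
    congr 1
    linear_combination η ^ 2 * (η ^ 5 + 1) * hη5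
  generalize W a = b at *
  generalize W b = c at *
  generalize W c = d at *
  have e1 : X a - X b + X c - X d = 0 := by rw [← map_sub, ← map_add, ← map_sub, h0, map_zero]
  have e2 : X (X a) - X (X b) + X (X c) - X (X d) = 0 := by
    rw [← map_sub, ← map_add, ← map_sub, e1, map_zero]
  have e3 : X (X (X a)) - X (X (X b)) + X (X (X c)) - X (X (X d)) = 0 := by
    rw [← map_sub, ← map_add, ← map_sub, e2, map_zero]
  simp only [ha, h1, h2, h3, map_smul, smul_smul] at e1 e2 e3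
  have h4 : ((η - η ^ 3) * (η - η ^ 4) * (η - η ^ 2)) • a = 0 := by
    linear_combination (norm := module) e3 - (η ^ 3 + η ^ 4 + η ^ 2) • e2 + (η ^ 3 * η ^ 4 + η ^ 3 * η ^ 2 + η ^ 4 * η ^ 2) • e1 -
      (η ^ 3 * η ^ 4 * η ^ 2) • h0
  have h5 : (η - η ^ 3) * (η - η ^ 4) * (η - η ^ 2) ≠ 0 := by
    have a1 := hne 1 3 (by norm_num) (by norm_num) (by norm_num)
    have a2 := hne 1 4 (by norm_num) (by norm_num) (by norm_num)
    have a3 := hne 1 2 (by norm_num) (by norm_num) (by norm_num)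
    rw [pow_one] at a1 a2 a3
    exact mul_ne_zero (mul_ne_zero a1 a2) a3
  exact Subtype.ext ((smul_eq_zero.1 h4).resolve_left h5)

/-- **elements of order 5 conjugate to their squares** -/
theorem five_L (h5 : (5 : F) ≠ 0) {x g : Gh F} (hx : x ^ 5 = 1) (hx1 : x ≠ 1) (hg : g * x * g⁻¹ = x ^ 2) :
    ev (V F x) 1 = 16 ∧ ev (L F x) 1 = 33 ∧ ∃ ζ : AlgebraicClosure F, IsPrimitiveRoot ζ 5 ∧
      ev (L (AlgebraicClosure F) (emb (algebraMap F (AlgebraicClosure F)) x)) ζ = 25 := by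
  have h5' : ((5 : ℕ) : F) ≠ 0 := by exact_mod_cast h5
  obtain ⟨p, hpp, hp, hcop⟩ := exists_char h5'
  obtain ⟨ζ, hζ, P, hP, h1⟩ := pat chk5 (by norm_num) p hcop hx
  have e1 := ev_rat (V (AlgebraicClosure F)) (N := 5) (a := 2) (b := 3) (emb_pow_one (algebraMap F _) hx) hζ.pow_eq_one
    (by norm_num) (by norm_num) (emb_rat _ hg) 1
  have h2 := (h1 1 (by norm_num)).1
  have h2' := (h1 1 (by norm_num)).2
  have h3 := (h1 3 (by norm_num)).1
  have h0 := (h1 0 (by norm_num)).1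
  have h0' := (h1 0 (by norm_num)).2
  rw [pow_zero, ev_V_one] at h0
  rw [pow_zero, ev_L_one] at h0'
  rw [h2, one_mul, h3] at e1
  have key : ∀ P ∈ T5, P.1.getD 0 0 = 56 ∨ (P.1.getD 0 0 = 16 ∧ P.2.getD 0 0 = 33 ∧ P.2.getD 1 0 = 25) ∨
      P.1.getD 1 0 ≠ P.1.getD 3 0 := by decide
  rcases key P hP with h | ⟨a, b, c⟩ | h
  · exact absurd (eq_one_of_ev (h0.trans h)) hx1
  · refine ⟨by rw [h0, a], by rw [h0', b], ζ, hζ, ?_⟩
    rw [pow_one] at h2'
    rw [h2', c]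
  · exact absurd e1 h

/-- **elements of order 8 normalizing a subgroup of order 5** -/
theorem eight_five (h2 : (2 : F) ≠ 0) (h5 : (5 : F) ≠ 0) {x w : Gh F} (hw : V F (w ^ 4) = -1) (hx : x ^ 5 = 1) (hx1 : x ≠ 1)
    (hg : w * x * w⁻¹ = x ^ 2) :
    (ev (L F w) 1 = 47 ∧ ev (L F (w ^ 2)) 1 = 79) ∨ (ev (L F w) 1 = 33 ∧ ev (L F (w ^ 2)) 1 = 63) ∨
    (ev (L F w) 1 = 39 ∧ ev (L F (w ^ 2)) 1 = 79) := by
  obtain ⟨-, -, ζ, hζ, h25⟩ := five_L h5 hx hx1 hg
  set f := algebraMap F (AlgebraicClosure F) with hf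
  have hxw : x * w = w * (x * (x * x)) := by
    have e1 : w * (x * (x * x)) * w⁻¹ = x := by
      calc w * (x * (x * x)) * w⁻¹ = (w * x * w⁻¹) ^ 3 := by
            rw [conj_pow]
            congr 2
            rw [pow_succ, pow_succ, pow_one, mul_assoc]
        _ = x := by rw [hg, ← pow_mul, show 2 * 3 = 5 + 1 by norm_num, pow_add, hx, one_mul, pow_one]
    rw [mul_inv_eq_iff_eq_mul] at e1
    exact e1.symm
  have had : ad F (w ^ 4) = 1 := ad_eq_one_iff.2 (Or.inr hw)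
  have hle := orb_le (X := L (AlgebraicClosure F) (emb f x)) (W := L (AlgebraicClosure F) (emb f w))
    (fun v => by
      rw [← Module.End.mul_apply, ← map_mul, ← map_mul, hxw]
      simp only [map_mul]
      rfl)
    (fun v => by
      have e1 : ad (AlgebraicClosure F) (emb f (w ^ 4)) = 1 := (ad_emb_eq_one_iff f _).2 had
      have e2 : L (AlgebraicClosure F) (emb f (w ^ 4)) = 1 := by rw [L_eq, e1, map_one]
      have e3 : L (AlgebraicClosure F) (emb f (w ^ 4)) v = v := by rw [e2]; rfl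
      have e4 : w ^ 4 = w * (w * (w * w)) := by simp only [pow_succ, pow_zero, one_mul, mul_assoc]
      rw [e4] at e3
      simp only [map_mul] at e3
      exact e3) hζ
  rw [h25, ev_L_neg_one] at hle
  have h8 := eight_L h2 hw
  omega

/-- **elements of order 7 conjugate to their squares** -/
theorem seven_L (h7 : (7 : F) ≠ 0) {x g : Gh F} (hx : x ^ 7 = 1) (hx1 : x ≠ 1) (hg : g * x * g⁻¹ = x ^ 2) :
    (ev (V F x) 1 = 2 ∧ ev (L F x) 1 = 31) ∨ (ev (V F x) 1 = 8 ∧ ev (L F x) 1 = 19) ∨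
      (ev (V F x) 1 = 20 ∧ ev (L F x) 1 = 37) := by
  have h7' : ((7 : ℕ) : F) ≠ 0 := by exact_mod_cast h7
  obtain ⟨p, hpp, hp, hcop⟩ := exists_char h7'
  obtain ⟨ζ, hζ, P, hP, h1⟩ := pat chk7 (by norm_num) p hcop hx
  have hm : ∀ j, ζ ^ j = ζ ^ (j % 7) := fun j => pow_mod_eq hζ j
  have eV := fun k => ev_rat (V (AlgebraicClosure F)) (N := 7) (a := 2) (b := 4) (emb_pow_one (algebraMap F _) hx)
    hζ.pow_eq_one (by norm_num) (by norm_num) (emb_rat _ hg) k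
  have e1 := eV 1
  have e2 := eV 4
  have e3 := eV 3
  rw [one_mul, (h1 1 (by norm_num)).1, (h1 4 (by norm_num)).1] at e1
  rw [hm (4 * 4), (h1 4 (by norm_num)).1, (h1 2 (by norm_num)).1] at e2
  rw [hm (3 * 4), (h1 3 (by norm_num)).1, (h1 5 (by norm_num)).1] at e3
  have h0 := (h1 0 (by norm_num)).1
  have h0' := (h1 0 (by norm_num)).2
  rw [pow_zero, ev_V_one] at h0
  rw [pow_zero, ev_L_one] at h0'
  have key : ∀ P ∈ T7, P.1.getD 1 0 = P.1.getD 4 0 → P.1.getD 4 0 = P.1.getD 2 0 → P.1.getD 3 0 = P.1.getD 5 0 →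
      P.1.getD 0 0 = 56 ∨ (P.1.getD 0 0 = 2 ∧ P.2.getD 0 0 = 31) ∨ (P.1.getD 0 0 = 8 ∧ P.2.getD 0 0 = 19) ∨
      (P.1.getD 0 0 = 20 ∧ P.2.getD 0 0 = 37) := by decide
  rw [h0, h0']
  rcases key P hP e1 e2 e3 with h | h
  · exact absurd (eq_one_of_ev (h0.trans h)) hx1
  · exact h

end

end Cfsg.Agent.R2.T1.N7C
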