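import Mathlib
import Cfsg.Agent.Lib.AltCarmichael

/-!
# S5929: the covering group `2·A₇` as a permutation group of degree 240 (helper6)

* `WR m y z` : Carmichael's relations `y i ^ 3 = 1`, `(y i * y j) ^ 2 = z` of `2·A_(m+2)`;
* `pp` : permutations of 240 points with these relations (`m = 5`), `act w k` : the action of words (letters `i < 5` : `y i`,
  `i + 5` : `y i ^ 2`);
* `word_eq` : words equal as permutations are equal in every group with elements satisfying the relations;
* `card_stab` : the stabilizer of the point 0 has 21 elements.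
-/

set_option autoImplicit false
set_option maxRecDepth 100000

namespace Cfsg.Agent.R2.T1.N7C

open Subgroup
open Cfsg.Agent.Lib.AltCarmichael

universe u v

section abs
variable {G : Type u} {H : Type v} [Group G] [Group H]

/-- Carmichael's relations for the double cover -/
structure WR (m : ℕ) (y : ℕ → G) (z : G) : Prop where
  comm : ∀ i < m, y i * z = z * y i
  sq : z * z = 1
  cube : ∀ i < m, y i ^ 3 = 1
  prod : ∀ i < m, ∀ j < m, i ≠ j → (y i * y j) ^ 2 = z

theorem card_ker_range {A : Type*} {B : Type*} [Group A] [Group B] (f : A →* B) :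
    Nat.card A = Nat.card f.ker * Nat.card f.range := by
  rw [← Subgroup.index_ker, Subgroup.card_mul_index]

theorem gen_map (f : G →* H) (m : ℕ) (y : ℕ → G) : (gen m y).map f = gen m fun i => f (y i) := by
  rw [gen_def, gen_def, MonoidHom.map_closure]
  congr 1
  ext g
  constructor
  · rintro ⟨_, ⟨i, hi, rfl⟩, rfl⟩
    exact ⟨i, hi, rfl⟩
  · rintro ⟨i, hi, rfl⟩
    exact ⟨_, ⟨i, hi, rfl⟩, rfl⟩

theorem WR.mem {y : ℕ → G} {z : G} (h : WR 5 y z) : z ∈ gen 5 y := by
  rw [← h.prod 0 (by norm_num) 1 (by norm_num) (by norm_num)]
  exact pow_mem (mul_mem (mem_gen (by norm_num)) (mem_gen (by norm_num))) 2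

theorem card_aux {y : ℕ → G} {z : G} (h : WR 5 y z) (hcom : ∀ g, g * z = z * g) (hz : z ≠ 1) :
    Nat.card (gen 5 y) = 5040 := by
  have hc : z ∈ center G := Subgroup.mem_center_iff.2 hcom
  have hN : (zpowers z).Normal := ⟨fun a ha g => by
    have h1 : a ∈ center G := (zpowers_le.2 hc) ha
    rw [Subgroup.mem_center_iff.1 h1 g, mul_inv_cancel_right]
    exact ha⟩
  have hcard : Nat.card (zpowers z) = 2 := by
    rw [Nat.card_zpowers]
    exact orderOf_eq_prime (by rw [pow_two, h.sq]) hz
  have hsq : ∀ w ∈ zpowers z, w ^ 2 = 1 := by
    rintro w ⟨k, rfl⟩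
    show (z ^ k) ^ 2 = 1
    rw [← zpow_natCast, ← zpow_mul, mul_comm, zpow_mul, zpow_natCast, pow_two, h.sq, one_zpow]
  set q := QuotientGroup.mk' (zpowers z) with hq
  have hqz : q z = 1 := (QuotientGroup.eq_one_iff z).2 (mem_zpowers z)
  have hrel : Rel 5 fun i => q (y i) := by
    refine ⟨fun i hi => ?_, fun i hi j hj hij => ?_⟩
    · rw [← map_pow, h.cube i hi, map_one]
    · rw [← map_mul, ← map_pow, h.prod i hi j hj hij, hqz]
  have hne : ∃ i < 5, q (y i) ≠ 1 := by
    by_contra hall
    push Not at hall
    have h1 : q (y 0 * y 1) = 1 := by rw [map_mul, hall 0 (by norm_num), hall 1 (by norm_num), mul_one]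
    have h2 := hsq _ ((QuotientGroup.eq_one_iff _).1 h1)
    rw [h.prod 0 (by norm_num) 1 (by norm_num) (by norm_num)] at h2
    exact hz h2
  obtain ⟨e⟩ := nonempty_gen_equiv (by norm_num) hrel hne
  have hA : Nat.card ↥(alternatingGroup (Fin (5 + 2))) = 2520 := by
    rw [nat_card_alternatingGroup, Nat.card_eq_fintype_card, Fintype.card_fin]
    rfl
  have h3 : Nat.card (gen 5 fun i => q (y i)) = 2520 := by rw [Nat.card_congr e.toEquiv, hA]
  set D := gen 5 y with hD
  have h4 := card_ker_range (q.comp D.subtype)
  have h5 : (q.comp D.subtype).range = gen 5 fun i => q (y i) := by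
    rw [MonoidHom.range_comp, range_subtype, hD, gen_map]
  have h6 : (q.comp D.subtype).ker = (zpowers z).subgroupOf D := by
    ext g
    rw [MonoidHom.mem_ker, mem_subgroupOf]
    exact QuotientGroup.eq_one_iff _
  have h7 : Nat.card ((zpowers z).subgroupOf D) = 2 := by
    rw [← hcard]
    exact Nat.card_congr (subgroupOfEquivOfLe (by rw [zpowers_le]; exact h.mem)).toEquiv
  rw [h4, h5, h6, h3, h7]

/-- **the relations define a group of order 5040** -/
theorem WR.card {y : ℕ → G} {z : G} (h : WR 5 y z) (hz : z ≠ 1) : Nat.card (gen 5 y) = 5040 := by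
  set S := gen 5 y with hS
  have hm : ∀ i, i < 5 → y i ∈ S := fun i hi => mem_gen hi
  let y' : ℕ → S := fun i => if h : i < 5 then ⟨y i, hm i h⟩ else 1
  let z' : S := ⟨z, h.mem⟩
  have hy' : ∀ i, i < 5 → (y' i : G) = y i := fun i hi => by
    show ((if h : i < 5 then (⟨y i, hm i h⟩ : S) else 1 : S) : G) = y i
    rw [dif_pos hi]
  have hcz : ∀ g ∈ S, g * z = z * g := by
    intro g hg
    rw [hS, gen_def] at hg
    induction hg using Subgroup.closure_induction with
    | mem u hu =>
      obtain ⟨i, hi, rfl⟩ := hu
      exact h.comm i hi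
    | one => rw [one_mul, mul_one]
    | mul u v hu hv ihu ihv => rw [mul_assoc, ihv, ← mul_assoc, ihu, mul_assoc]
    | inv u hu ihu =>
      have h1 : Commute u z := ihu
      exact h1.inv_left
  have hW : WR 5 y' z' := by
    refine ⟨fun i hi => Subtype.ext ?_, Subtype.ext h.sq, fun i hi => Subtype.ext ?_, fun i hi j hj hij => Subtype.ext ?_⟩
    · show (y' i : G) * z = z * (y' i : G)
      rw [hy' i hi, h.comm i hi]
    · show (y' i : G) ^ 3 = 1
      rw [hy' i hi, h.cube i hi]
    · show ((y' i : G) * (y' j : G)) ^ 2 = z
      rw [hy' i hi, hy' j hj, h.prod i hi j hj hij]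
  have h1 := card_aux hW (fun g => Subtype.ext (hcz g g.2)) (fun h0 => hz (congrArg Subtype.val h0))
  have h2 : (gen 5 y').map S.subtype = S := by
    rw [gen_map]
    have h3 : (gen 5 fun i => S.subtype (y' i)) = gen 5 y := by
      rw [gen_def, gen_def]
      congr 1
      ext g
      constructor
      · rintro ⟨i, hi, rfl⟩
        exact ⟨i, hi, hy' i hi⟩
      · rintro ⟨i, hi, rfl⟩
        exact ⟨i, hi, (hy' i hi).symm⟩
    exact h3
  have h4 : Nat.card ↥((gen 5 y').map S.subtype) = Nat.card ↥(gen 5 y') :=
    (Nat.card_congr ((gen 5 y').equivMapOfInjective S.subtype S.subtype_injective).toEquiv).symm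
  rw [h2, h1] at h4
  exact h4

theorem WR.pair {m : ℕ} {y : ℕ → G} {z : G} {y' : ℕ → H} {z' : H} (h : WR m y z) (h' : WR m y' z') :
    WR m (fun i => (y i, y' i)) (z, z') where
  comm i hi := Prod.ext (h.comm i hi) (h'.comm i hi)
  sq := Prod.ext h.sq h'.sq
  cube i hi := Prod.ext (h.cube i hi) (h'.cube i hi)
  prod i hi j hj hij := Prod.ext (h.prod i hi j hj hij) (h'.prod i hi j hj hij)

/-- the group generated by the pairs is a graph -/
theorem graph {y : ℕ → G} {z : G} {y' : ℕ → H} {z' : H} (h : WR 5 y z) (h' : WR 5 y' z') (hz : z ≠ 1)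
    {p : G} {g g' : H} (hg : (p, g) ∈ gen 5 fun i => (y i, y' i)) (hg' : (p, g') ∈ gen 5 fun i => (y i, y' i)) : g = g' := by
  set D := gen 5 (fun i => (y i, y' i)) with hD
  have hcD : Nat.card D = 5040 := (h.pair h').card fun h1 => hz (congrArg Prod.fst h1)
  have hcG : Nat.card (gen 5 y) = 5040 := h.card hz
  set p1 : D →* G := (MonoidHom.fst G H).comp D.subtype with hp1
  have hr1 : p1.range = gen 5 y := by
    rw [hp1, MonoidHom.range_comp, range_subtype, hD, gen_map]
    rfl
  have h1 := card_ker_range p1
  rw [hr1, hcG, hcD] at h1
  have h2 : Nat.card p1.ker = 1 := by omega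
  have h3 : p1.ker = ⊥ := eq_bot_of_card_eq _ h2
  have h4 := (MonoidHom.ker_eq_bot_iff p1).1 h3
  have h5 : (⟨(p, g), hg⟩ : D) = ⟨(p, g'), hg'⟩ := h4 rfl
  exact congrArg (fun d : D => d.1.2) h5

/-- letters -/
def lt (y : ℕ → G) (i : ℕ) : G := if i < 5 then y i else y (i - 5) * y (i - 5)

/-- words -/
def wd (y : ℕ → G) (w : List ℕ) : G := (w.map (lt y)).prod

/-- valid words -/
def vw (w : List ℕ) : Bool := w.all fun i => Nat.blt i 10

theorem wd_nil (y : ℕ → G) : wd y [] = 1 := rfl

theorem wd_cons (y : ℕ → G) (i : ℕ) (w : List ℕ) : wd y (i :: w) = lt y i * wd y w := by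
  rw [wd, List.map_cons, List.prod_cons]; rfl

theorem wd_append (y : ℕ → G) (w w' : List ℕ) : wd y (w ++ w') = wd y w * wd y w' := by
  rw [wd, List.map_append, List.prod_append]; rfl

theorem vw_append {w w' : List ℕ} (h : vw w = true) (h' : vw w' = true) : vw (w ++ w') = true := by
  unfold vw at *
  rw [List.all_append, h, h']
  rfl

theorem lt_lt {w : List ℕ} (h : vw w = true) {i : ℕ} (hi : i ∈ w) : i < 10 := by
  unfold vw at h
  have := List.all_eq_true.1 h i hi
  exact Nat.le_of_ble_eq_true this

theorem lt_mem {y : ℕ → G} {i : ℕ} (hi : i < 10) : lt y i ∈ gen 5 y := by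
  unfold lt
  split_ifs with h
  · exact mem_gen h
  · exact mul_mem (mem_gen (by omega)) (mem_gen (by omega))

theorem wd_mem {y : ℕ → G} {w : List ℕ} (h : vw w = true) : wd y w ∈ gen 5 y := by
  unfold wd
  refine list_prod_mem ?_
  intro x hx
  obtain ⟨i, hi, rfl⟩ := List.mem_map.1 hx
  exact lt_mem (lt_lt h hi)

theorem lt_pair (y : ℕ → G) (y' : ℕ → H) (i : ℕ) : lt (fun i => (y i, y' i)) i = (lt y i, lt y' i) := by
  unfold lt
  split_ifs with h <;> rfl

theorem wd_pair (y : ℕ → G) (y' : ℕ → H) (w : List ℕ) : wd (fun i => (y i, y' i)) w = (wd y w, wd y' w) := by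
  induction w with
  | nil => rfl
  | cons i w ih => rw [wd_cons, wd_cons, wd_cons, ih, lt_pair]; rfl

end abs

/-! ### the permutations -/

/-- the tables of the five generators -/
def tabs : List ℕ := [
  85226903167103265079581344082080084306081201096190126796780869341119000707510210431098394266481398253884885975571581509665654376061292944826232892528718149773348444319589485349868790919793906168408562983508753518899600540810438517853271521735842573364757519002031890935434318359426041595678276920952693461890621076253089569330818235366762075306214724909420489982824460960892063882109680231523193849122751589475217062240035533640257590286316648203773843027361013804827007926731994175002686706399523277560368744938828891574258047645037898965773661425710161680407202729086392927745,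
  39454872950647713613035229669856693018304760974037619228235764136751923266830500378661401355120228292083758907357094986455778065939482569933547615698238784537030812071885327519754703249166190427019440313769274808411452085199302680527671643993594209771515734684607944101635507165403010485068761788812259962209322755445518027605962070500734617364038568124010962129405646106853097521856467617731018771021951322966924476146983533860728210874346624326626751160247062221634792408198329630561836090164922106511790483032764172121245769730738484355041893739125296739791777249369805753090,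
  40920745918270584893595365737837513615257164126967050393842643051000861203213164878689470766639851925417894775367112044367978326414158404756939987838589483303894776760220637238894225983043591528568462800362044271496961276125421801676257455862657317098089074981311781461116001753285443200209257341807537962468426439414556484125690106911170034140190531810932673663664501310692035198972804526275952481250667224049452303726303553922933466041089009758805802201020986582755225639595781914927867347119747556333136208530506379596875362748247506547066759764195678560761967593486801964035,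
  28904479840748140549946940422169967721864262966336803965600714413007484574146038975279538133413750730548193196251219760063971408750583483897944856555626659081190325601577583593514725677976163022396116010230914122650379206444692536438670789874698453209619010671849264410179977441074247660571074047510888275068949909816457815708930238354494261512388787263308748830217306273126083773880614228571047563060634243369250281085524761388831708413455043188812441703492854229960858932332387068926221839191789509496086545453151144498873946901395628282563534647371326091001292282129445883140,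
  80269297530580704577135330312671047732060861579277125249456814253969130183599300061466097309283125119461680548938861436402348374978578057094019833757720986312499583703879135709846273509258783239752249201586570441989505347021050761078695098789265620287701637008109223839026591962071677608922446733723932570957093976427183963278051666662779116951053110095615042804595077294640408433717950802724772355221119194255855690015937859761461618940938969586983764816454022588870725145696282083395439390048125601933140764664072883670826926826632959871111702926844880120052486568052927106565]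

/-- the action of the generators on `0, …, 239` -/
def A (i k : ℕ) : ℕ := (tabs.getD i 0 >>> (8 * k)) % 256

/-- the action of the letters -/
def act1 (i k : ℕ) : ℕ := bif Nat.blt i 5 then A i k else A (i - 5) (A (i - 5) k)

/-- the action of words -/
def act (w : List ℕ) (k : ℕ) : ℕ := w.foldr act1 k

theorem act_nil (k : ℕ) : act [] k = k := rfl

theorem act_cons (i : ℕ) (w : List ℕ) (k : ℕ) : act (i :: w) k = act1 i (act w k) := rfl

theorem act_append (w w' : List ℕ) (k : ℕ) : act (w ++ w') k = act w (act w' k) := by
  unfold act
  rw [List.foldr_append]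

/-- the check of the tables -/
def okA : Bool := (List.range 5).all fun i => (List.range 240).all fun k =>
  Nat.blt (A i k) 240 && Nat.beq (A i (A i (A i k))) k

theorem okA_true : okA = true := by decide +kernel

theorem A_lt {i k : ℕ} (hi : i < 5) (hk : k < 240) : A i k < 240 ∧ A i (A i (A i k)) = k := by
  have h := okA_true
  unfold okA at h
  have h1 := List.all_eq_true.1 (List.all_eq_true.1 h i (List.mem_range.2 hi)) k (List.mem_range.2 hk)
  rw [Bool.and_eq_true] at h1
  exact ⟨Nat.le_of_ble_eq_true h1.1, Nat.eq_of_beq_eq_true h1.2⟩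

theorem act1_lt {i k : ℕ} (hi : i < 10) (hk : k < 240) : act1 i k < 240 := by
  unfold act1
  cases h : Nat.blt i 5
  · have h1 : ¬ i < 5 := fun h2 => by
      have : Nat.blt i 5 = true := Nat.ble_eq_true_of_le h2
      rw [this] at h
      exact Bool.noConfusion h
    exact (A_lt (by omega) (A_lt (by omega) hk).1).1
  · have h1 : i < 5 := Nat.le_of_ble_eq_true h
    exact (A_lt h1 hk).1

theorem act_lt {w : List ℕ} (hw : vw w = true) {k : ℕ} (hk : k < 240) : act w k < 240 := by
  induction w with
  | nil => exact hk
  | cons i w ih =>
    have h1 : i < 10 := lt_lt hw List.mem_cons_self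
    have h2 : vw w = true := by
      unfold vw at *
      rw [List.all_cons, Bool.and_eq_true] at hw
      exact hw.2
    rw [act_cons]
    exact act1_lt h1 (ih h2)

/-- the permutations of `Fin 240` -/
def pp (i : ℕ) : Equiv.Perm (Fin 240) :=
  if h : i < 5 then
    ⟨fun k => ⟨A i k.1, (A_lt h k.2).1⟩, fun k => ⟨A i (A i k.1), (A_lt h (A_lt h k.2).1).1⟩,
      fun k => Fin.ext (A_lt h k.2).2, fun k => Fin.ext (A_lt h k.2).2⟩
  else 1

theorem pp_val {i : ℕ} (hi : i < 5) (k : Fin 240) : (pp i k).1 = A i k.1 := by
  unfold pp
  rw [dif_pos hi]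
  rfl

theorem lt_val {i : ℕ} (hi : i < 10) (k : Fin 240) : (lt pp i k).1 = act1 i k.1 := by
  unfold lt act1
  by_cases h : i < 5
  · have h1 : Nat.blt i 5 = true := Nat.ble_eq_true_of_le h
    rw [if_pos h, h1, pp_val h]
    rfl
  · have h1 : Nat.blt i 5 = false := by
      cases h2 : Nat.blt i 5
      · rfl
      · exact absurd (Nat.le_of_ble_eq_true h2) h
    rw [if_neg h, h1, Equiv.Perm.mul_apply, pp_val (by omega), pp_val (by omega)]
    rfl

theorem wd_val {w : List ℕ} (hw : vw w = true) (k : Fin 240) : (wd pp w k).1 = act w k.1 := by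
  induction w with
  | nil => rfl
  | cons i w ih =>
    have h1 : i < 10 := lt_lt hw List.mem_cons_self
    have h2 : vw w = true := by
      unfold vw at *
      rw [List.all_cons, Bool.and_eq_true] at hw
      exact hw.2
    rw [wd_cons, Equiv.Perm.mul_apply, lt_val h1, ih h2, act_cons]

/-- equality of words as permutations -/
def chkW (w w' : List ℕ) : Bool := vw w && vw w' && (List.range 240).all fun k => Nat.beq (act w k) (act w' k)

theorem chkW_eq {w w' : List ℕ} (h : chkW w w' = true) : wd pp w = wd pp w' := by
  unfold chkW at h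
  rw [Bool.and_eq_true, Bool.and_eq_true] at h
  refine Equiv.ext fun k => Fin.ext ?_
  rw [wd_val h.1.1, wd_val h.1.2]
  exact Nat.eq_of_beq_eq_true (List.all_eq_true.1 h.2 k.1 (List.mem_range.2 k.2))

/-- the word of the central element -/
def wz : List ℕ := [0, 1, 0, 1]

/-- the check of the relations -/
def okR : Bool := (List.range 5).all fun i => chkW (i :: wz) (wz ++ [i]) &&
  (List.range 5).all fun j => Nat.beq i j || chkW [i, j, i, j] wz

theorem okR_true : okR = true := by decide +kernel

theorem chk_zz : chkW (wz ++ wz) [] = true := by decide +kernel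

theorem rel_pp : WR 5 pp (wd pp wz) := by
  have h := okR_true
  unfold okR at h
  have hi : ∀ i < 5, chkW (i :: wz) (wz ++ [i]) = true ∧ ∀ j < 5, i ≠ j → chkW [i, j, i, j] wz = true := by
    intro i hi
    have h1 := List.all_eq_true.1 h i (List.mem_range.2 hi)
    rw [Bool.and_eq_true] at h1
    refine ⟨h1.1, fun j hj hij => ?_⟩
    have h2 := List.all_eq_true.1 h1.2 j (List.mem_range.2 hj)
    rw [Bool.or_eq_true] at h2
    rcases h2 with h2 | h2
    · exact absurd (Nat.eq_of_beq_eq_true h2) hij
    · exact h2
  have hl : ∀ i < 5, lt pp i = pp i := fun i hi => by unfold lt; rw [if_pos hi]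
  refine ⟨fun i h5 => ?_, ?_, fun i h5 => ?_, fun i h5 j hj hij => ?_⟩
  · have h1 := chkW_eq (hi i h5).1
    rw [wd_cons, wd_append, wd_cons, wd_nil, mul_one, hl i h5] at h1
    exact h1
  · have h1 := chkW_eq chk_zz
    rwa [wd_append, wd_nil] at h1
  · refine Equiv.ext fun k => Fin.ext ?_
    rw [pow_succ, pow_two, Equiv.Perm.mul_apply, Equiv.Perm.mul_apply, pp_val h5, pp_val h5, pp_val h5, (A_lt h5 k.2).2]
    rfl
  · have h1 := chkW_eq ((hi i h5).2 j hj hij)
    rw [wd_cons, wd_cons, wd_cons, wd_cons, wd_nil, mul_one, hl i h5, hl j hj] at h1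
    rw [pow_two, ← h1, mul_assoc]

theorem z_ne : wd pp wz ≠ 1 := by
  intro h
  have h1 : ((wd pp wz) 0).1 = ((1 : Equiv.Perm (Fin 240)) 0).1 := by rw [h]
  rw [wd_val (by decide)] at h1
  have h2 : act wz ((0 : Fin 240) : ℕ) = 120 := by decide +kernel
  rw [h2] at h1
  exact absurd h1 (by decide)

section use
variable {G : Type u} [Group G] {g : ℕ → G} {z : G}

/-- **words which are equal as permutations are equal** -/
theorem word_eq (hR : WR 5 g z) {w w' : List ℕ} (h : chkW w w' = true) : wd g w = wd g w' := by
  have h' := h
  unfold chkW at h'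
  rw [Bool.and_eq_true, Bool.and_eq_true] at h'
  have h1 := wd_mem (y := fun i => (pp i, g i)) h'.1.1
  have h2 := wd_mem (y := fun i => (pp i, g i)) h'.1.2
  rw [wd_pair] at h1 h2
  rw [chkW_eq h] at h1
  exact graph rel_pp hR z_ne h1 h2

theorem wd_wz (hR : WR 5 g z) : wd g wz = z := by
  rw [← hR.prod 0 (by norm_num) 1 (by norm_num) (by norm_num)]
  unfold wz
  rw [wd_cons, wd_cons, wd_cons, wd_cons, wd_nil, mul_one, pow_two, mul_assoc]
  rfl

end use

end Cfsg.Agent.R2.T1.N7C
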