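import Cfsg.Agent.R2.T1.N7C.M7

/-!
# S5929: the stabilizer of a point in the covering group `2·A₇` (helper6)

* `wx0`, `wx1` (order 5), `wy` (order 7), `ws` (order 3): words; `wy`, `ws` generate the stabilizer `7:3` of the point 0;
* `stab` : a word fixing the point 0 is in the group generated by `wy`, `ws`;
* `fv` : the vectors indexed by the points; `fv_act`.
-/

set_option autoImplicit false
set_option maxRecDepth 100000

namespace Cfsg.Agent.R2.T1.N7C

open Subgroup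
open Cfsg.Agent.Lib.AltCarmichael

universe u v

/-- words leading to the points -/
def paths : List (List ℕ) := [
  [], [0], [1], [2], [3], [4], [5], [6], [7], [8], [9], [1, 0], [2, 0], [3, 0], [4, 0], [6, 0], [7, 0], [8, 0], [9, 0], [0, 1], [2, 1], [3, 1], [4, 1], [5, 1], [7, 1], [8, 1], [9, 1], [1, 2], [3, 2], [4, 2], [5, 2], [6, 2], [8, 2], [9, 2], [0, 3], [1, 3], [2, 3], [4, 3], [5, 3], [6, 3], [7, 3], [9, 3], [1, 4], [3, 4], [5, 4], [6, 4], [7, 4], [8, 4], [2, 5], [3, 5], [2, 6], [3, 6], [4, 6], [0, 7], [1, 7], [4, 7], [0, 8], [1, 8], [4, 8], [1, 9], [2, 9], [3, 9], [3, 1, 0], [4, 1, 0], [7, 1, 0], [8, 1, 0], [9, 1, 0], [1, 2, 0], [3, 2, 0], [4, 2, 0], [6, 2, 0], [8, 2, 0], [9, 2, 0], [1, 3, 0], [6, 3, 0], [2, 4, 0], [3, 4, 0], [6, 4, 0], [7, 4, 0], [8, 4, 0], [0, 6, 0], [4, 6, 0], [0, 7, 0], [1, 7, 0], [4, 7, 0], [0, 8, 0], [4, 8, 0], [1, 9, 0], [4, 0, 1], [9, 0, 1], [0, 2, 1], [3, 2, 1], [4, 2, 1], [9, 2, 1], [0, 3, 1],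 [4, 3, 1], [5, 3, 1], [9, 3, 1], [4, 5, 1], [3, 7, 1], [1, 8, 1], [1, 9, 1], [3, 9, 1], [4, 1, 2], [0, 3, 2], [1, 3, 2], [3, 4, 2], [1, 8, 2], [2, 9, 2], [3, 9, 2], [1, 0, 3], [6, 0, 3], [9, 2, 3], [1, 4, 3], [8, 1, 4], [3, 4, 1, 0], [1, 8, 1, 0], [1, 9, 1, 0], [5, 1, 2, 0], [3, 6, 2, 0], [1, 0, 1, 0], [6, 5, 6], [5, 6, 5], [5, 7, 5], [5, 8, 5], [5, 9, 5], [1, 0, 1], [0, 1, 0], [0, 2, 0], [0, 3, 0], [0, 4, 0], [5, 6], [5, 7], [9, 7], [5, 9], [0, 9, 3], [8, 0, 1], [7, 8, 4], [0, 7, 1], [6, 5], [6, 7], [6, 8], [7, 5], [4, 5, 2], [5, 9, 0], [0, 7, 4], [5, 9, 2], [7, 6], [7, 8], [7, 9], [9, 5, 1], [5, 4, 0], [2, 9, 0], [0, 9, 1], [8, 5], [9, 5], [8, 7], [8, 9], [7, 3, 1], [5, 6, 4], [3, 5, 4], [5, 6, 0], [9, 6], [9, 8], [7, 3, 2], [7, 4, 3], [8, 7, 0], [5, 1, 0], [5, 7, 0], [6, 7, 0], [6, 7, 1], [6, 8, 1], [8, 7, 1], [5, 2, 0], [6, 2, 1], [9, 3, 0], [5, 3, 0], [6, 3, 1], [8, 9, 3], [6, 4, 1], [7, 4, 2], [2, 6, 0], [6, 8, 0], [6, 9,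 0], [8, 7, 5], [5, 7, 3], [9, 5, 6], [7, 6, 0], [9, 6, 0], [7, 9, 0], [6, 5, 7], [5, 7, 1], [9, 5, 7], [8, 6, 0], [6, 9, 7], [9, 7, 0], [9, 8, 0], [6, 5, 9], [7, 5, 9], [7, 9, 3], [1, 5, 1], [5, 8, 9], [2, 5, 2], [6, 3, 5], [5, 1, 8], [3, 5, 3], [6, 5, 3, 0], [5, 2, 6], [5, 9, 1], [5, 4, 2], [7, 5, 1], [7, 8, 1], [7, 9, 1], [6, 7, 3], [8, 5, 1], [8, 9, 1], [7, 3, 6], [6, 7, 4], [9, 5, 2], [6, 5, 2], [3, 6, 3], [4, 6, 4], [9, 7, 1, 0], [6, 9, 2], [8, 5, 2], [8, 6, 2], [9, 8, 2], [6, 0, 7], [4, 7, 4], [8, 1, 7], [5, 6, 3], [5, 1, 4], [6, 5, 4], [9, 6, 3], [9, 3, 5], [9, 8, 1, 0], [6, 9, 2, 0], [4, 6, 4, 0], [7, 6, 4, 0], [8, 6, 4, 0]]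

/-- the element of order 5 -/
def wx0 : List ℕ := [5, 6, 9, 3, 7, 1, 0]

/-- the element of order 5 -/
def wx1 : List ℕ := [5, 6, 8, 4, 2, 1, 0]

/-- the element of order 7 -/
def wy : List ℕ := [6, 9, 3, 7, 1, 0]

/-- the element of order 3 -/
def ws : List ℕ := [1, 9, 2, 3, 1]

/-- normalizes the element of order 5 -/
def wg : List ℕ := [0, 7, 3, 6, 0]

/-- conjugates the elements of order 5 -/
def wt : List ℕ := [5, 4, 7, 0]


/-- powers of words -/
def rp (w : List ℕ) : ℕ → List ℕ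
  | 0 => []
  | n + 1 => w ++ rp w n

theorem wd_rp {G : Type*} [Group G] (y : ℕ → G) (w : List ℕ) (n : ℕ) : wd y (rp w n) = wd y w ^ n := by
  induction n with
  | zero => rw [pow_zero]; rfl
  | succ n ih => rw [pow_succ', ← ih, ← wd_append]; rfl

theorem vw_rp {w : List ℕ} (h : vw w = true) (n : ℕ) : vw (rp w n) = true := by
  induction n with
  | zero => rfl
  | succ n ih => exact vw_append h ih

/-- the check of the paths -/
def okP : Bool := (List.range 240).all fun k => vw (paths.getD k []) && Nat.beq (act (paths.getD k []) 0) k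

theorem okP_true : okP = true := by decide +kernel

theorem paths_ok {k : ℕ} (hk : k < 240) : vw (paths.getD k []) = true ∧ act (paths.getD k []) 0 = k := by
  have h := okP_true
  unfold okP at h
  have h1 := List.all_eq_true.1 h k (List.mem_range.2 hk)
  rw [Bool.and_eq_true] at h1
  exact ⟨h1.1, Nat.eq_of_beq_eq_true h1.2⟩

section use
variable {G : Type u} [Group G] {g : ℕ → G} {z : G}

theorem word_pow (hR : WR 5 g z) {w : List ℕ} {n : ℕ} (h : chkW (rp w n) [] = true) : wd g w ^ n = 1 := by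
  rw [← wd_rp, word_eq hR h, wd_nil]

theorem chk_y7 : chkW (rp wy 7) [] = true := by decide +kernel
theorem chk_s3 : chkW (rp ws 3) [] = true := by decide +kernel
theorem chk_sy : chkW (ws ++ wy) (rp wy 2 ++ ws) = true := by decide +kernel
theorem wy_zero : act wy 0 = 0 := by decide +kernel
theorem ws_zero : act ws 0 = 0 := by decide +kernel

theorem pp_ne {w : List ℕ} (hw : vw w = true) {k : ℕ} (hk : k < 240) (h : act w k ≠ k) : wd pp w ≠ 1 := by
  intro h0
  have h1 : ((wd pp w) ⟨k, hk⟩).1 = ((1 : Equiv.Perm (Fin 240)) ⟨k, hk⟩).1 := by rw [h0]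
  rw [wd_val hw] at h1
  exact h h1

/-- **the stabilizer of the point 0** -/
theorem stab (hR : WR 5 g z) {w w' : List ℕ} (hw : vw w = true) (hw' : vw w' = true) (h0 : act w 0 = act w' 0) :
    (wd g w')⁻¹ * wd g w ∈ closure {wd g wy, wd g ws} := by
  classical
  set q : ℕ → Equiv.Perm (Fin 240) × G := fun i => (pp i, g i) with hq
  set D := gen 5 q with hD
  have hcD : Nat.card D = 5040 := (rel_pp.pair hR).card fun h1 => z_ne (congrArg Prod.fst h1)
  have hfin : Finite D := Nat.finite_of_card_ne_zero (by rw [hcD]; norm_num)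
  let p1 : D →* Equiv.Perm (Fin 240) := (MonoidHom.fst _ G).comp D.subtype
  let _ : MulAction D (Fin 240) := MulAction.compHom (Fin 240) p1
  have hsm : ∀ (d : D) (k : Fin 240), d • k = d.1.1 k := fun _ _ => rfl
  have hel : ∀ {w : List ℕ}, vw w = true → ∃ d : D, d.1.1 = wd pp w ∧ d.1.2 = wd g w := fun {w} h =>
    ⟨⟨wd q w, wd_mem h⟩, congrArg Prod.fst (wd_pair pp g w), congrArg Prod.snd (wd_pair pp g w)⟩
  have horb : MulAction.orbit D (0 : Fin 240) = Set.univ := by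
    rw [Set.eq_univ_iff_forall]
    intro k
    obtain ⟨d, hd, -⟩ := hel (paths_ok k.2).1
    refine ⟨d, ?_⟩
    show d.1.1 0 = k
    rw [hd]
    exact Fin.ext (by rw [wd_val (paths_ok k.2).1]; exact (paths_ok k.2).2)
  have hcS : Nat.card (MulAction.stabilizer D (0 : Fin 240)) = 21 := by
    have h1 := MulAction.index_stabilizer D (0 : Fin 240)
    rw [horb, Set.ncard_univ, Nat.card_eq_fintype_card, Fintype.card_fin] at h1
    have h2 := Subgroup.card_mul_index (MulAction.stabilizer D (0 : Fin 240))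
    rw [h1, hcD] at h2
    omega
  obtain ⟨dy, hy1, hy2⟩ := hel (w := wy) (by decide)
  obtain ⟨ds, hs1, hs2⟩ := hel (w := ws) (by decide)
  have hz0 : ∀ {w : List ℕ} {d : D}, vw w = true → d.1.1 = wd pp w → act w 0 = 0 →
      d ∈ MulAction.stabilizer D (0 : Fin 240) := by
    intro w d hw hd h0
    rw [MulAction.mem_stabilizer_iff, hsm, hd]
    exact Fin.ext (by rw [wd_val hw]; exact h0)
  have hle : closure {dy, ds} ≤ MulAction.stabilizer D (0 : Fin 240) := by
    rw [closure_le]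
    rintro x (rfl | rfl)
    · exact hz0 (by decide) hy1 wy_zero
    · exact hz0 (by decide) hs1 ws_zero
  have hpow : ∀ {w : List ℕ} {d : D} {n : ℕ}, d.1.1 = wd pp w → d.1.2 = wd g w → chkW (rp w n) [] = true → d ^ n = 1 := by
    intro w d n h1 h2 hn
    refine Subtype.ext (Prod.ext ?_ ?_)
    · show d.1.1 ^ n = 1
      rw [h1]
      exact word_pow rel_pp hn
    · show d.1.2 ^ n = 1
      rw [h2]
      exact word_pow hR hn
  have hord : ∀ {w : List ℕ} {d : D} {n : ℕ}, n.Prime → d.1.1 = wd pp w → d.1.2 = wd g w → chkW (rp w n) [] = true →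
      vw w = true → act w 1 ≠ 1 → orderOf d = n := by
    intro w d n hn h1 h2 h3 hw h4
    refine orderOf_eq_prime_iff (hp := ⟨hn⟩) |>.2 ⟨hpow h1 h2 h3, ?_⟩
    intro h5
    refine pp_ne hw (k := 1) (by norm_num) h4 ?_
    rw [← h1, h5]
    rfl
  have o7 : orderOf dy = 7 := hord (by norm_num) hy1 hy2 chk_y7 (by decide) (by decide +kernel)
  have o3 : orderOf ds = 3 := hord (by norm_num) hs1 hs2 chk_s3 (by decide) (by decide +kernel)
  have hdvd : 21 ∣ Nat.card (closure {dy, ds}) := by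
    have h1 : 7 ∣ Nat.card (closure {dy, ds}) := by
      rw [← o7]
      exact Subgroup.orderOf_dvd_natCard _ (subset_closure (Set.mem_insert _ _))
    have h2 : 3 ∣ Nat.card (closure {dy, ds}) := by
      rw [← o3]
      exact Subgroup.orderOf_dvd_natCard _ (subset_closure (Set.mem_insert_of_mem _ rfl))
    omega
  have heq : closure {dy, ds} = MulAction.stabilizer D (0 : Fin 240) := by
    refine Subgroup.eq_of_le_of_card_ge hle ?_
    rw [hcS]
    exact Nat.le_of_dvd Nat.card_pos hdvd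
  obtain ⟨d, hd1, hd2⟩ := hel hw
  obtain ⟨d', hd1', hd2'⟩ := hel hw'
  have hd : d'⁻¹ * d ∈ MulAction.stabilizer D (0 : Fin 240) := by
    rw [MulAction.mem_stabilizer_iff, mul_smul, inv_smul_eq_iff, hsm, hsm, hd1, hd1']
    refine Fin.ext ?_
    rw [wd_val hw, wd_val hw']
    exact h0
  rw [← heq] at hd
  have h5 : (MonoidHom.snd _ G).comp D.subtype (d'⁻¹ * d) ∈ (closure {dy, ds}).map ((MonoidHom.snd _ G).comp D.subtype) :=
    Subgroup.mem_map_of_mem _ hd
  rw [MonoidHom.map_closure, Set.image_pair] at h5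
  have e1 : (MonoidHom.snd _ G).comp D.subtype (d'⁻¹ * d) = (wd g w')⁻¹ * wd g w := by
    rw [← hd2, ← hd2']
    rfl
  have e2 : (MonoidHom.snd _ G).comp D.subtype dy = wd g wy := hy2
  have e3 : (MonoidHom.snd _ G).comp D.subtype ds = wd g ws := hs2
  rwa [e1, e2, e3] at h5

end use

section vec
variable {K : Type*} {W : Type*} [Field K] [AddCommGroup W] [Module K W] {G : Type u} [Group G] {g : ℕ → G} {z : G}
  (ρ : Representation K G W)

/-- words with the same value at 0 -/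
theorem fix_eq (hR : WR 5 g z) {v : W} (hy : ρ (wd g wy) v = v) (hs : ρ (wd g ws) v = v) {w w' : List ℕ}
    (hw : vw w = true) (hw' : vw w' = true) (h : act w 0 = act w' 0) : ρ (wd g w) v = ρ (wd g w') v := by
  have h := stab hR hw hw' h
  have key : ∀ x ∈ closure {wd g wy, wd g ws}, ρ x v = v := by
    intro x hx
    induction hx using Subgroup.closure_induction with
    | mem x hx =>
      rcases hx with rfl | rfl
      · exact hy
      · exact hs
    | one => rw [map_one]; rfl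
    | mul x y _ _ ihx ihy => rw [map_mul, Module.End.mul_apply, ihy, ihx]
    | inv x _ ih =>
      have h1 : ρ x⁻¹ (ρ x v) = v := by rw [← Module.End.mul_apply, ← map_mul, inv_mul_cancel, map_one]; rfl
      rwa [ih] at h1
  have h1 := key _ h
  have h2 := congrArg (ρ (wd g w')) h1
  rwa [← Module.End.mul_apply, ← map_mul, mul_inv_cancel_left] at h2

/-- the vectors indexed by the points -/
def fv (g : ℕ → G) (v : W) (k : ℕ) : W := ρ (wd g (paths.getD k [])) v

theorem fv_act (hR : WR 5 g z) {v : W} (hy : ρ (wd g wy) v = v) (hs : ρ (wd g ws) v = v) {w : List ℕ}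
    (hw : vw w = true) {k : ℕ} (hk : k < 240) : ρ (wd g w) (fv ρ g v k) = fv ρ g v (act w k) := by
  unfold fv
  rw [← Module.End.mul_apply, ← map_mul, ← wd_append]
  have h1 := paths_ok hk
  have h2 := paths_ok (act_lt hw hk)
  refine fix_eq ρ hR hy hs (vw_append hw h1.1) h2.1 ?_
  rw [act_append, h1.2, h2.2]

theorem fv_word (hR : WR 5 g z) {v : W} (hy : ρ (wd g wy) v = v) (hs : ρ (wd g ws) v = v) {w : List ℕ}
    (hw : vw w = true) : ρ (wd g w) v = fv ρ g v (act w 0) := by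
  unfold fv
  have h2 := paths_ok (act_lt hw (k := 0) (by norm_num))
  exact fix_eq ρ hR hy hs hw h2.1 h2.2.symm

/-- the check of the central element -/
def okZ : Bool := (List.range 240).all fun k => Nat.beq (act wz k) ((k + 120) % 240)

theorem okZ_true : okZ = true := by decide +kernel

theorem fv_neg (hR : WR 5 g z) (hz : ∀ v : W, ρ z v = -v) {v : W} (hy : ρ (wd g wy) v = v) (hs : ρ (wd g ws) v = v)
    {k : ℕ} (hk : k < 240) : fv ρ g v ((k + 120) % 240) = -fv ρ g v k := by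
  have h := okZ_true
  unfold okZ at h
  have h1 : act wz k = (k + 120) % 240 := Nat.eq_of_beq_eq_true (List.all_eq_true.1 h k (List.mem_range.2 hk))
  rw [← h1, ← fv_act ρ hR hy hs (by decide) hk, wd_wz hR, hz]

end vec

end Cfsg.Agent.R2.T1.N7C
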