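import Cfsg.Agent.R2.T1.N7C.M7b

/-!
# S5929: the certificate for `2·A₇` in characteristic 3 (helper6)
-/

set_option autoImplicit false
set_option maxRecDepth 100000

namespace Cfsg.Agent.R2.T1.N7C

universe u v

/-- representatives of the orbits of the element of order 7 -/
def clsT : ℕ := 51956939707645985740170816115319545224987298896112036016661370647351519742642650677078697204193794710067266664718063323675857418572457006906806828690980628283868955929675008325019448574673346388607489008626768487299460327359891161094077172576257614451171114247588849443834610599116750428425495296098793843095871983039336512692800596291914699184009468837801336540756891745104492417672057210768251806548443642770569510990909194378154903345192237671150848285180920076852554701617865057808685085495436857021076585698810909803730836253170469887799017850225137712819108848733794730240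

/-- the certificate -/
def sW : List (List ℕ) := [
  [3, 0, 2], [1, 9], [9], [0, 1, 0, 1, 4, 1, 0, 2], [0, 1, 0, 1, 2, 0, 3], [0, 1, 0, 1, 1, 4, 2, 0], [0, 1, 0, 1, 4, 0, 1], [3, 1, 4, 0], [0, 1, 0, 1, 9, 1], [5, 1, 8], [5, 2], [0, 3], [9, 0], [8, 1, 2], [3, 0, 1], [0, 1, 0, 1, 5, 2, 8], [0, 3, 2], [9, 1, 7, 1], [2, 6, 4, 0], [0, 1, 0, 1, 7, 0, 9], [0, 1, 3], [0, 1, 0, 1, 8, 1, 0], [7, 0, 6, 0], [4, 6, 2], [5, 3, 4]]

/-- the representative of the orbit -/
def cl (p : ℕ) : ℕ := (clsT >>> (8 * p)) % 256

/-- the words of the block idempotent -/
def er : List (List ℕ) := [] :: ((List.range 5).map (fun k => wz ++ rp wx0 k) ++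
  (List.range 5).flatMap fun b => (List.range 5).map fun a => wz ++ (rp wx0 b ++ (rp wx1 a ++ rp wx0 ((5 - b) % 5))))

/-- the points of the block idempotent -/
def ptE (j : ℕ) : List ℕ := er.map fun e => act e (act (rp wx0 j) 0)

/-- the points of the certificate -/
def ptL (j : ℕ) : List ℕ := sW.flatMap fun s => (ptE j).map (act s)

/-- the number of points of a class -/
def cnt (c : ℕ) (l : List ℕ) : ℕ := l.countP fun p => Nat.beq (cl p) c

/-- the check of the classes -/
def okC : Bool := (List.range 240).all fun p => Nat.blt (cl p) 240 && ((List.range 7).any fun k =>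
  Nat.beq (act (rp wy k) p) (cl p))

/-- the check of the certificate -/
def okN (j : ℕ) : Bool := (List.range 120).all fun c =>
  Nat.beq ((cnt c (ptL j) + 2 * cnt (c + 120) (ptL j)) % 3) (bif Nat.beq j 0 && Nat.beq c 0 then 1 else 0)

theorem okC_true : okC = true := by decide +kernel

theorem okN_zero : okN 0 = true := by decide +kernel

theorem okN_one : okN 1 = true := by decide +kernel

theorem okN_two : okN 2 = true := by decide +kernel

end Cfsg.Agent.R2.T1.N7C
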