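import Cfsg.Agent.R2.T1.N7C.Eight
import Cfsg.Agent.R2.T1.N7.Sc7
import Cfsg.Agent.R2.T1.Inf.Cov

/-!
# S5929, box sev3c: `n = 7`, cover, characteristic 3: reduction (helper5)

* `rows` : the dimensions of the fixed points on the adjoint module of elements of order 2, 4, 5, 7;
* `sev3c_of` : there are fixed points on the adjoint module.
-/

set_option autoImplicit false
set_option maxRecDepth 100000

universe u v

namespace Cfsg.Agent.R2.T1.N7C

open Equiv Equiv.Perm Cfsg Cfsg.Lie Module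
open Cfsg.Agent.H943.E7V.Block (D1 rho)
open Cfsg.Agent.H952.F4 (ev es MaxAlt)
open Cfsg.Agent.H944.E6T (ev_conj)
open Cfsg.Agent.R2.T1

/-- conjugation of a relation `w r w⁻¹ = r ^ 2` -/
theorem conj_rel {n : ℕ} {r w : Perm (Fin n)} (σ : Perm (Fin n)) (hr : sign r = 1) (hw : sign w = 1)
    (h : w * r * w⁻¹ = r ^ 2) : ∃ r' w' : ↥(alternatingGroup (Fin n)), (r' : Perm (Fin n)) = σ * r * σ⁻¹ ∧
      (w' : Perm (Fin n)) = σ * w * σ⁻¹ ∧ w' * r' * w'⁻¹ = r' ^ 2 := by
  refine ⟨⟨σ * r * σ⁻¹, ?_⟩, ⟨σ * w * σ⁻¹, ?_⟩, rfl, rfl, Subtype.ext ?_⟩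
  · rw [mem_alternatingGroup, map_mul, map_mul, map_inv, hr, mul_one, mul_inv_cancel]
  · rw [mem_alternatingGroup, map_mul, map_mul, map_inv, hw, mul_one, mul_inv_cancel]
  · show σ * w * σ⁻¹ * (σ * r * σ⁻¹) * (σ * w * σ⁻¹)⁻¹ = (σ * r * σ⁻¹) ^ 2
    rw [conj_pow, ← h]
    group

/-- the representatives -/
def r5 : Perm (Fin 7) := swap 0 1 * swap 1 2 * (swap 2 3 * swap 3 4)
def w5 : Perm (Fin 7) := swap 1 2 * swap 2 4 * swap 4 3 * swap 5 6
def r7 : Perm (Fin 7) := swap 0 1 * swap 1 2 * (swap 2 3 * swap 3 4) * (swap 4 5 * swap 5 6)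
def w7 : Perm (Fin 7) := swap 1 2 * swap 2 4 * (swap 3 6 * swap 6 5)

theorem r5_sign : sign r5 = 1 := by decide
theorem w5_sign : sign w5 = 1 := by decide
theorem r7_sign : sign r7 = 1 := by decide
theorem w7_sign : sign w7 = 1 := by decide
theorem rel5 : w5 * r5 * w5⁻¹ = r5 ^ 2 := by decide
theorem rel7 : w7 * r7 * w7⁻¹ = r7 ^ 2 := by decide
theorem w5_type : w5.cycleType = {4, 2} := by decide +kernel
theorem r5_type : r5.cycleType = {5} := by decide +kernel
theorem r7_type : r7.cycleType = {7} := by decide +kernel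
theorem w5_sq_type : (w5 * w5).cycleType = {2, 2} := by decide +kernel

variable {F : Type u} [Field F]

/-- lifts of odd order of `r`, `w r w⁻¹ = r ^ 2` -/
theorem lift_rel {n : ℕ} {φ : ↥(alternatingGroup (Fin n)) →* ↥(chevE7.group F)} (hφ : Function.Injective φ)
    {k : ℕ} (hk : Odd k) {r w : ↥(alternatingGroup (Fin n))} (hr : r ^ k = 1) (hr1 : r ≠ 1) (hw : w * r * w⁻¹ = r ^ 2)
    {W : Gh F} (hW : ad F W = φ w) : ∃ R : Gh F, ad F R = φ r ∧ R ^ k = 1 ∧ R ≠ 1 ∧ W * R * W⁻¹ = R ^ 2 := by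
  obtain ⟨R, hR, hRk⟩ := odd_lift (k := k) (g := φ r) hk (by rw [← map_pow, hr, map_one])
  refine ⟨R, hR, hRk, ?_, ?_⟩
  · rintro rfl
    rw [map_one] at hR
    exact hr1 (hφ (by rw [← hR, map_one]))
  · refine odd_unique (k := k) hk ?_ ?_ ?_
    · rw [map_mul, map_mul, map_inv, map_pow, hW, hR, ← map_pow, ← hw, map_mul, map_mul, map_inv]
    · rw [conj_pow, hRk, mul_one, mul_inv_cancel]
    · rw [← pow_mul, mul_comm, pow_mul, hRk, one_pow]

variable [Finite F]

/-- **the rows**, cover, characteristic prime to 2, 5, 7 -/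
theorem rows {φ : ↥(alternatingGroup (Fin 7)) →* ↥(chevE7.group F)} (hφ : Function.Injective φ) (hc : Cover φ)
    (h2 : (2 : F) ≠ 0) (h5 : (5 : F) ≠ 0) (h7 : (7 : F) ≠ 0) :
    (∀ x : ↥(alternatingGroup (Fin 7)), (x : Perm (Fin 7)).cycleType = {5} →
      (∀ X : Gh F, ad F X = φ x → X ^ 5 = 1 → ev (V F X) 1 = 16) ∧ ev (LK F (φ x)) 1 = 33) ∧
    (∀ z : ↥(alternatingGroup (Fin 7)), (z : Perm (Fin 7)).cycleType = {7} →
      ev (LK F (φ z)) 1 = 31 ∨ ev (LK F (φ z)) 1 = 19 ∨ ev (LK F (φ z)) 1 = 37) ∧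
    (∀ x y : ↥(alternatingGroup (Fin 7)), (x : Perm (Fin 7)).cycleType = {2, 2} → (y : Perm (Fin 7)).cycleType = {4, 2} →
      (ev (LK F (φ x)) 1 = 79 ∧ (ev (LK F (φ y)) 1 = 47 ∨ ev (LK F (φ y)) 1 = 39)) ∨
      (ev (LK F (φ x)) 1 = 63 ∧ ev (LK F (φ y)) 1 = 33)) := by
  refine ⟨?_, ?_, ?_⟩
  · intro x hx
    obtain ⟨σ, hσ⟩ := isConj_iff.1 (isConj_iff_cycleType_eq.2 (r5_type.trans hx.symm))
    obtain ⟨r, w, hr, hw, hrel⟩ := conj_rel σ r5_sign w5_sign rel5
    have hrx : r = x := Subtype.ext (hr.trans hσ)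
    subst hrx
    obtain ⟨W, hW⟩ := ad_surjective (φ w)
    have ho : orderOf r = 5 := by rw [N7.Sc.ord7, hx]; decide
    have hr5 : r ^ 5 = 1 := by rw [← ho]; exact pow_orderOf_eq_one r
    have hr1 : r ≠ 1 := by
      rintro rfl
      rw [orderOf_one] at ho
      omega
    obtain ⟨R, hR, hRk, hR1, hWR⟩ := lift_rel hφ (k := 5) (by decide) hr5 hr1 hrel hW
    obtain ⟨e1, e2, -⟩ := five_L h5 hRk hR1 hWR
    refine ⟨fun X hX hX5 => ?_, ?_⟩
    · rw [odd_unique (k := 5) (by decide) (hX.trans hR.symm) hX5 hRk, e1]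
    · rw [← e2, L_eq, hR]
  · intro z hz
    obtain ⟨σ, hσ⟩ := isConj_iff.1 (isConj_iff_cycleType_eq.2 (r7_type.trans hz.symm))
    obtain ⟨r, w, hr, hw, hrel⟩ := conj_rel σ r7_sign w7_sign rel7
    have hrz : r = z := Subtype.ext (hr.trans hσ)
    subst hrz
    obtain ⟨W, hW⟩ := ad_surjective (φ w)
    have ho : orderOf r = 7 := by rw [N7.Sc.ord7, hz]; decide
    have hr7 : r ^ 7 = 1 := orderOf_dvd_iff_pow_eq_one.1 ho.dvd
    have hr1 : r ≠ 1 := by
      rintro rfl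
      rw [orderOf_one] at ho
      omega
    obtain ⟨R, hR, hRk, hR1, hWR⟩ := lift_rel hφ (k := 7) (by decide) hr7 hr1 hrel hW
    have e := seven_L h7 hRk hR1 hWR
    rw [L_eq, hR] at e
    omega
  · intro x y hx hy
    obtain ⟨σ, hσ⟩ := isConj_iff.1 (isConj_iff_cycleType_eq.2 (w5_type.trans hy.symm))
    obtain ⟨r, w, hr, hw, hrel⟩ := conj_rel σ r5_sign w5_sign rel5
    have hwy : w = y := Subtype.ext (hw.trans hσ)
    subst hwy
    obtain ⟨W, hW⟩ := ad_surjective (φ w)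
    have hrt : (r : Perm (Fin 7)).cycleType = {5} := by rw [hr, cycleType_conj, r5_type]
    have ho : orderOf r = 5 := by rw [N7.Sc.ord7, hrt]; decide
    have hr5 : r ^ 5 = 1 := by rw [← ho]; exact pow_orderOf_eq_one r
    have hr1 : r ≠ 1 := by
      rintro rfl
      rw [orderOf_one] at ho
      omega
    obtain ⟨R, hR, hRk, hR1, hWR⟩ := lift_rel hφ (k := 5) (by decide) hr5 hr1 hrel hW
    have hwt : ((w * w : ↥(alternatingGroup (Fin 7))) : Perm (Fin 7)).cycleType = {2, 2} := by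
      have e1 : ((w * w : ↥(alternatingGroup (Fin 7))) : Perm (Fin 7)) = σ * (w5 * w5) * σ⁻¹ := by
        show (w : Perm (Fin 7)) * (w : Perm (Fin 7)) = _
        rw [hw]
        group
      rw [e1, cycleType_conj, w5_sq_type]
    have hW4 : V F (W ^ 4) = -1 := by
      have e1 := hc.sq (by norm_num) hφ hwt (x := W * W) (by rw [map_mul, hW, map_mul])
      have e2 : W ^ 4 = W * W * (W * W) := by simp only [pow_succ, pow_zero, one_mul, mul_assoc]
      rw [e2]
      exact e1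
    have e := eight_five h2 h5 hW4 hRk hR1 hWR
    obtain ⟨c, hcx⟩ := conj_dt (by norm_num) hwt hx
    have e2 : ev (LK F (φ x)) 1 = ev (L F (W ^ 2)) 1 := by
      rw [L_eq, map_pow, hW, ← hcx]
      simp only [map_mul, map_inv]
      have := ev_conj (LK F) (φ c) (φ w * φ w) 1
      simp only [map_mul] at this
      rw [this, pow_two, map_mul]
    rw [L_eq, hW, ← e2] at e
    omega

/-- **reduction**: there are no fixed points on the adjoint module; `hH` is supplied by helper23's theorem -/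
theorem sev3c_of {φ : ↥(alternatingGroup (Fin 7)) →* ↥(chevE7.group F)} (hφ : Function.Injective φ) (hc : Cover φ)
    (h3 : (3 : F) = 0) (hinv : Representation.invariants (MonoidHom.comp (LK F) φ) = ⊥)
    (hH : ∀ x y z : ↥(alternatingGroup (Fin 7)), orderOf x = 5 → orderOf y = 4 → orderOf z = 7 →
      ev (LK F (φ y)) 1 = ev (LK F (φ x)) 1 → 133 < 3 * ev (LK F (φ y)) 1 + 2 * ev (LK F (φ z)) 1 → False) : False := by
  have h2 : (2 : F) ≠ 0 := by
    intro h2
    have h1 : (1 : F) = 0 := by linear_combination h3 - h2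
    exact one_ne_zero h1
  have h5 : (5 : F) ≠ 0 := by
    intro h5
    have h1 : (1 : F) = 0 := by linear_combination 2 * h3 - h5
    exact one_ne_zero h1
  have h7 : (7 : F) ≠ 0 := by
    intro h7
    have h1 : (1 : F) = 0 := by linear_combination h7 - 2 * h3
    exact one_ne_zero h1
  obtain ⟨a5, a7, a24⟩ := rows hφ hc h2 h5 h7
  obtain ⟨x, y, hgen, hx, hy, hz, -, hy4, hz7⟩ := N7.Sc.triple7
  have hs := Cfsg.Agent.H952.F4.Scott.scott_form (MonoidHom.comp (LK F) φ) (x := x) (y := y) hgen (kf F)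
    (fun v hv => kf_nondeg h2 fun w => by rw [kf_comm]; exact hv w) (fun g v w => by
      obtain ⟨g', hg'⟩ := ad_surjective (φ g)
      have := kf_L g' v w
      rw [L_eq, hg'] at this
      exact this)
  rw [finrank_L, hinv, finrank_bot, mul_zero, add_zero] at hs
  have hs' : ev (LK F (φ x)) 1 + ev (LK F (φ y)) 1 + ev (LK F (φ (x * y))) 1 ≤ 133 := hs
  have e7 := a7 _ hz
  have e24 := a24 x y hx hy
  have h63 : ev (LK F (φ y)) 1 = 33 := by omega
  let t : ↥(alternatingGroup (Fin 7)) := ⟨r5, mem_alternatingGroup.2 r5_sign⟩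
  have ht : orderOf t = 5 := by
    rw [N7.Sc.ord7]
    show r5.cycleType.lcm = 5
    rw [r5_type]
    decide
  have e5 := (a5 t r5_type).2
  exact hH t y (x * y) ht hy4 hz7 (h63.trans e5.symm) (by omega)

end Cfsg.Agent.R2.T1.N7C
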